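import Cfsg.Agent.G2Square.Levi

/-!
When a product of a lower part, an element of the Levi factor and an upper part is a product of two
conjugates of the image of an element `X` of `GL₂(F)`.
-/

set_option autoImplicit false
set_option maxRecDepth 100000

namespace Cfsg.Agent.G2Square

open Cfsg.Lie Cfsg.Agent.Chev Matrix
open Cfsg.Agent.Chev.G2Invol (ia ib words half_g2 nroots_eq)
open scoped MatrixGroups

universe u

variable {F : Type u} [Field F]

local notation "GF" => GL chevG2.Idx F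
local notation "GL2" => GL (Fin 2) F

/-- A scalar matrix. -/
def scal (a : Fˣ) : GL2 :=
  ⟨!![(a : F), 0; 0, (a : F)], !![((a⁻¹ : Fˣ) : F), 0; 0, ((a⁻¹ : Fˣ) : F)],
    by simp [Matrix.one_fin_two], by simp [Matrix.one_fin_two]⟩

theorem scal_val (a : Fˣ) :
    ((scal a : GL2) : Matrix (Fin 2) (Fin 2) F) = !![(a : F), 0; 0, (a : F)] := rfl

theorem scal_comm (a : Fˣ) (M : GL2) : M * scal a = scal a * M := by
  apply Units.ext
  rw [Units.val_mul, Units.val_mul, scal_val]
  ext i j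
  fin_cases i <;> fin_cases j <;> simp [Matrix.mul_apply, Fin.sum_univ_two, mul_comm]

theorem psi_scal (a : Fˣ) : psi (scal a) = torusHom (fun j => if j = ia then a else a * a) :=
  psi_diag _ a a (scal_val a)

/-! ### Trivial centralisers in the radicals -/

/-- Nothing but `1` in either radical commutes with the image of `X`. -/
def Triv (X : GL2) : Prop :=
  (∀ w ∈ radP (F := F) ia, psi X * w = w * psi X → w = 1) ∧
    ∀ w ∈ negOther (F := F) ia, psi X * w = w * psi X → w = 1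

theorem Triv.conj {X : GL2} (h : Triv X) (S : GL2) : Triv (S * X * S⁻¹) := by
  have key : ∀ H : Subgroup GF, (psi S : GF) ∈ Subgroup.normalizer (H : Set GF) →
      (∀ w ∈ H, psi X * w = w * psi X → w = 1) →
      ∀ w ∈ H, psi (S * X * S⁻¹) * w = w * psi (S * X * S⁻¹) → w = 1 := by
    intro H hn hX w hw e
    rw [map_mul, map_mul, map_inv] at e
    have hw' : (psi S)⁻¹ * w * psi S ∈ H := (Subgroup.mem_normalizer_iff''.1 hn w).1 hw
    have h1 := hX _ hw' (by
      calc psi X * ((psi S)⁻¹ * w * psi S)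
          = (psi S)⁻¹ * (psi S * psi X * (psi S)⁻¹ * w) * psi S := by group
        _ = _ := by rw [e]; group)
    calc w = psi S * ((psi S)⁻¹ * w * psi S) * (psi S)⁻¹ := by group
      _ = 1 := by rw [h1]; group
  exact ⟨key _ (psi_norm_radP S) h.1, key _ (psi_norm_neg S) h.2⟩

theorem root_list : ∀ r : Fin chevG2.nroots, 6 ≤ (r : ℕ) → (r : ℕ) = 6 ∨ (r : ℕ) = 7 ∨
    (r : ℕ) = 8 ∨ (r : ℕ) = 9 ∨ (r : ℕ) = 10 ∨ (r : ℕ) = 11 := by decide +kernel

theorem eq_one_of_simple_mem_radP (i : Fin chevG2.rank) {t : F}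
    (h : (xG facts_chevG2.{u} (chevG2.simple i) t : GF) ∈ radP i) : t = 0 := by
  obtain ⟨k, hk0, hk⟩ := isMon_nS facts_chevG2.{u} i (F := F) (sRoot facts_chevG2.{u} i)
  rw [wPerm_sRoot] at hk
  have h1 := nS_conj_other facts_chevG2.{u} i.2 h
  rw [show nS facts_chevG2.{u} (i : ℕ) * xG facts_chevG2.{u} (chevG2.simple i) t *
    (nS facts_chevG2.{u} (i : ℕ))⁻¹ = xG facts_chevG2.{u}
      (negF facts_chevG2.{u} (sRoot facts_chevG2.{u} i) : ℕ) (k * t) from by
    rw [show xG facts_chevG2.{u} (chevG2.simple i) t =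
      (xG facts_chevG2.{u} (sRoot facts_chevG2.{u} i : ℕ) t : GF) from rfl, hk, mul_inv_cancel_right]] at h1
  have h2 := borel_inf_upper facts_chevG2.{u}
    (Subgroup.mem_sup_left (otherRoots_le facts_chevG2.{u} (i : ℕ) h1))
    (negUnipotent_le_upperGroup facts_chevG2.{u} (mem_negUnipotent_of facts_chevG2.{u}
      (negF facts_chevG2.{u} _).2 ((neg_lt_half_iff facts_chevG2.{u} (sRoot facts_chevG2.{u} i).2).2
        ((facts_chevG2.{u}).simple_pos i i.2)) _))
  exact (mul_eq_zero.1 ((xG_eq_one_iff facts_chevG2.{u} (negF facts_chevG2.{u} _).2).1 h2)).resolve_left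
    hk0

theorem radP_comm_torus {e : Fin chevG2.rank → Fˣ}
    (he : ∀ r ∈ [6, 8, 9, 10], chiU e r ≠ 1) {w : GF} (hw : w ∈ radP ia)
    (h : torusHom e * w = w * torusHom e) : ∃ f : F, w = xG facts_chevG2.{u} 11 f := by
  have hwU : w ∈ chevG2.posUnipotent F := otherRoots_le facts_chevG2.{u} (ia : ℕ) hw
  rw [posUnipotent_eq facts_chevG2.{u}] at hwU
  obtain ⟨t, rfl⟩ := exists_prodFrom facts_chevG2.{u} _ _ rfl le_rfl w hwU
  rw [torusHom_prodFrom facts_chevG2.{u} e t _ _ rfl, mul_left_inj] at h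
  have hz : ∀ r ∈ [6, 8, 9, 10], t r = 0 := by
    intro r hr
    have h1 : 6 ≤ r ∧ r < 12 := by simp at hr; omega
    have e1 : (chiU e r : F) * t r = t r := prodFrom_inj facts_chevG2.{u} _ _ rfl le_rfl h r
      (by rw [half_g2]; exact h1.1) (by rw [nroots_eq]; exact h1.2)
    have hne : (chiU e r : F) - 1 ≠ 0 := sub_ne_zero.2 fun e' => he r hr (Units.ext e')
    have e2 : ((chiU e r : F) - 1) * t r = 0 := by rw [sub_mul, e1, one_mul, sub_self]
    exact (mul_eq_zero.1 e2).resolve_left hne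
  have hw' : prodFrom facts_chevG2.{u} (half chevG2) t =
      xG facts_chevG2.{u} 7 (t 7) * (xG facts_chevG2.{u} 11 (t 11) : GF) := by
    have hn := nroots_eq
    rw [half_g2, prodFrom_succ facts_chevG2.{u} (by omega), prodFrom_succ facts_chevG2.{u} (by omega),
      prodFrom_succ facts_chevG2.{u} (by omega), prodFrom_succ facts_chevG2.{u} (by omega),
      prodFrom_succ facts_chevG2.{u} (by omega), prodFrom_succ facts_chevG2.{u} (by omega),
      prodFrom_top facts_chevG2.{u} (by omega)]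
    simp [hz 6 (by simp), hz 8 (by simp), hz 9 (by simp), hz 10 (by simp), xG_zero]
  rw [hw'] at hw ⊢
  have h11 : (xG facts_chevG2.{u} 11 (t 11) : GF) ∈ radP ia :=
    Subgroup.subset_closure ⟨11, _, by rw [nroots_eq]; omega, by rw [half_g2]; omega,
      by rw [show chevG2.simple (ia : ℕ) = 7 from simple_ia.1]; omega, rfl⟩
  have h7 := Subgroup.mul_mem _ hw (Subgroup.inv_mem _ h11)
  rw [mul_inv_cancel_right] at h7
  have h0 : t 7 = 0 := eq_one_of_simple_mem_radP ia
    (by rw [show chevG2.simple (ia : ℕ) = 7 from simple_ia.1]; exact h7)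
  exact ⟨t 11, by rw [h0, xG_zero, one_mul]⟩

theorem scal_exps : ∀ r ∈ [6, 8, 9, 10],
    chevG2.cartan ia r + 2 * chevG2.cartan ib r = 1 ∧
      chevG2.cartan ia (chevG2.neg r) + 2 * chevG2.cartan ib (chevG2.neg r) = -1 := by decide +kernel

theorem chiU_scal (a : Fˣ) (r : ℕ) :
    chiU (fun j : Fin chevG2.rank => if j = ia then a else a * a) r =
      a ^ (chevG2.cartan ia r + 2 * chevG2.cartan ib r) := by
  have hu : (Finset.univ : Finset (Fin chevG2.rank)) = {ia, ib} := by decide +kernel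
  have hab : ia ≠ ib := by decide +kernel
  rw [chiU, hu, Finset.prod_pair hab, if_pos rfl, if_neg hab.symm, _root_.zpow_add, _root_.zpow_mul]
  congr 1
  rw [show (2 : ℤ) = ((2 : ℕ) : ℤ) from rfl, zpow_natCast, pow_two]

theorem fixed_exps : chevG2.cartan ib 11 = 1 ∧ chevG2.cartan ib 0 = -1 := by decide +kernel

/-- A criterion for trivial centralisers. -/
theorem triv_of {X : GL2} (hd : Matrix.GeneralLinearGroup.det X ≠ 1) {k : ℕ} {l : Fˣ}
    (hl : l ≠ 1) (hk : X ^ k = scal l) : Triv X := by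
  set c : Fin chevG2.rank → Fˣ := fun j => if j = ia then l else l * l with hc
  have hz : psi X ^ k = (torusHom c : GF) := by rw [← map_pow, hk, psi_scal]
  have hchi : ∀ r ∈ [6, 8, 9, 10], chiU c r ≠ 1 ∧ chiU c (chevG2.neg r) ≠ 1 := by
    intro r hr
    obtain ⟨h1, h2⟩ := scal_exps r hr
    rw [hc, chiU_scal, chiU_scal, h1, h2, _root_.zpow_one, _root_.zpow_neg_one]
    exact ⟨hl, inv_ne_one.2 hl⟩
  have comm : ∀ w : GF, psi X * w = w * psi X → torusHom c * w = w * torusHom c := by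
    intro w h
    rw [← hz]
    exact (Commute.pow_left h k)
  have fix : ∀ (r : Fin chevG2.nroots), ((r : ℕ) = 0 ∨ (r : ℕ) = 11) → ∀ f : F,
      psi X * xG facts_chevG2.{u} (r : ℕ) f = xG facts_chevG2.{u} (r : ℕ) f * psi X →
      (xG facts_chevG2.{u} (r : ℕ) f : GF) = 1 := by
    intro r hr f h
    rw [psi_fixed_root X r hr, mul_left_inj] at h
    have e := xG_inj facts_chevG2.{u} r.2 h
    have hne : Matrix.GeneralLinearGroup.det X ^ chevG2.cartan ib r ≠ 1 := by
      rcases hr with hr | hr <;> rw [hr]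
      · rw [fixed_exps.2, _root_.zpow_neg_one]; exact inv_ne_one.2 hd
      · rw [fixed_exps.1, _root_.zpow_one]; exact hd
    have e2 : (((Matrix.GeneralLinearGroup.det X ^ chevG2.cartan ib r : Fˣ) : F) - 1) * f = 0 := by
      rw [sub_mul, e, one_mul, sub_self]
    rw [(mul_eq_zero.1 e2).resolve_left (sub_ne_zero.2 fun e' => hne (Units.ext e')), xG_zero]
  refine ⟨fun w hw h => ?_, fun w hw h => ?_⟩
  · obtain ⟨f, rfl⟩ := radP_comm_torus (fun r hr => (hchi r hr).1) hw (comm w h)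
    exact fix ⟨11, by rw [nroots_eq]; omega⟩ (Or.inr rfl) f h
  · obtain ⟨y, hy, rfl⟩ := Subgroup.mem_map.1 hw
    set n : GF := nWord facts_chevG2.{u} w0 with hn
    obtain ⟨e, he⟩ := torus_nWord facts_chevG2.{u} w0 c (F := F)
    rw [← hn] at he
    have hce : ∀ r : Fin chevG2.nroots, chiU c (chevG2.neg r) = chiU e (r : ℕ) := fun r => by
      have h1 := CentTorus.chiU_conj facts_chevG2.{u} (isMon_nWord facts_chevG2.{u} w0) he.symm r
      rw [← h1, show pWord facts_chevG2.{u} w0 r = negF facts_chevG2.{u} r from w0_neg r]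
      rfl
    have hy' : torusHom e * y = y * torusHom e := by
      have h2 : torusHom c * (n * y * n⁻¹) = n * y * n⁻¹ * torusHom c := comm _ h
      calc torusHom e * y = n⁻¹ * (n * torusHom e) * y := by group
        _ = n⁻¹ * (torusHom c * (n * y * n⁻¹)) * n := by rw [← he]; group
        _ = n⁻¹ * (n * y * n⁻¹) * (torusHom c * n) := by rw [h2]; group
        _ = _ := by rw [he]; group
    obtain ⟨f, rfl⟩ := radP_comm_torus (fun r hr => by
      have h1 : r < chevG2.nroots := by rw [nroots_eq]; simp at hr; omega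
      rw [← hce ⟨r, h1⟩]; exact (hchi r hr).2) hy hy'
    obtain ⟨m, -, hm⟩ := n0_root (F := F) ⟨11, by rw [nroots_eq]; omega⟩
    have h11 : n * xG facts_chevG2.{u} 11 f * n⁻¹ = xG facts_chevG2.{u}
        (negF facts_chevG2.{u} (⟨11, by rw [nroots_eq]; omega⟩ : Fin chevG2.nroots) : ℕ) (m * f) := by
      rw [hn, hm f, mul_inv_cancel_right]
    change psi X * (n * xG facts_chevG2.{u} 11 f * n⁻¹) = n * xG facts_chevG2.{u} 11 f * n⁻¹ * _ at h
    show n * xG facts_chevG2.{u} 11 f * n⁻¹ = 1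
    rw [h11] at h ⊢
    exact fix _ (Or.inl (by show chevG2.neg 11 = 0; decide +kernel)) _ h

/-! ### The class -/

theorem coroot_top : ∀ j : Fin chevG2.rank, coef chevG2 11 j = if j = ia then 1 else 2 := by
  decide +kernel

/-- Scaling by the inverse of the determinant is a conjugation in the group. -/
theorem flip_det (M : GL2) : ∃ n ∈ chevG2.group F,
    n * psi M * n⁻¹ = psi (M * scal (Matrix.GeneralLinearGroup.det M)⁻¹) := by
  set δ := Matrix.GeneralLinearGroup.det M with hδ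
  have h11 : 11 < chevG2.nroots := by rw [nroots_eq]; omega
  set r : Fin chevG2.nroots := ⟨11, h11⟩ with hr
  refine ⟨nG facts_chevG2.{u} 11 1, nG_mem_group facts_chevG2.{u} _ _, ?_⟩
  set n : GF := nG facts_chevG2.{u} 11 1 with hn
  have hphi : ∀ S, n * phi S = phi S * n := by
    intro S
    have h0 : chevG2.neg 11 = 0 := by decide +kernel
    have c1 : ∀ f : F, phi S * xG facts_chevG2.{u} 11 f = xG facts_chevG2.{u} 11 f * phi S :=
      fun f => phi_commute r (Or.inr rfl) f S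
    have c2 : ∀ f : F, phi S * xG facts_chevG2.{u} 0 f = xG facts_chevG2.{u} 0 f * phi S :=
      fun f => phi_commute ⟨0, by rw [nroots_eq]; omega⟩ (Or.inl rfl) f S
    rw [hn, nG, h0]
    have d1 : Commute (xG facts_chevG2.{u} 11 (1 : F)) (phi S) := (c1 1).symm
    have d2 : Commute (xG facts_chevG2.{u} 0 (-(1 : F)⁻¹)) (phi S) := (c2 _).symm
    exact ((d1.mul_left d2).mul_left d1).eq
  have htau : ∀ c : Fin chevG2.rank → Fˣ,
      n * torusHom c = torusHom (c * coH 11 (chiU c 11)⁻¹) * n := by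
    intro c
    set χ : Fˣ := chiU c 11 with hχ
    have h0 : chevG2.neg 11 = 0 := by decide +kernel
    have hA : torusHom c * nG facts_chevG2.{u} 11 ((χ⁻¹ : Fˣ) : F) =
        (n * torusHom c : GF) := by
      have e11 : ∀ f : F, torusHom c * xG facts_chevG2.{u} 11 f =
          xG facts_chevG2.{u} 11 ((χ : F) * f) * torusHom c :=
        fun f => torusHom_conj facts_chevG2.{u} c h11 f
      have e0 : ∀ f : F, torusHom c * xG facts_chevG2.{u} 0 f =
          xG facts_chevG2.{u} 0 (((χ⁻¹ : Fˣ) : F) * f) * torusHom c := fun f => by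
        rw [torusHom_conj facts_chevG2.{u} c (show 0 < chevG2.nroots by rw [nroots_eq]; omega) f,
          show chiU c 0 = χ⁻¹ by rw [← h0, chiU_neg facts_chevG2.{u} c h11]]
      rw [hn, nG, nG, h0, ← mul_assoc, ← mul_assoc, e11, mul_assoc _ (torusHom c), e0, ← mul_assoc,
        mul_assoc _ (torusHom c), e11, ← mul_assoc]
      simp
    rw [← hA, map_mul, ← hG_eq_torus facts_chevG2.{u} h11, hG, hn, mul_assoc _ (nG _ _ _ * nG _ _ _),
      mul_assoc (nG facts_chevG2.{u} 11 ((χ⁻¹ : Fˣ) : F)), ← nG_inv facts_chevG2.{u} 11 (1 : F),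
      inv_mul_cancel, mul_one]
  have hc : (Pi.mulSingle ib δ : Fin chevG2.rank → Fˣ) * coH 11 (chiU (Pi.mulSingle ib δ) 11)⁻¹ =
      Pi.mulSingle ib δ * fun j => if j = ia then δ⁻¹ else δ⁻¹ * δ⁻¹ := by
    have h1 : chiU (Pi.mulSingle ib δ : Fin chevG2.rank → Fˣ) 11 = δ := by
      rw [show (ib : Fin chevG2.rank) = ⟨ib, ib.2⟩ from rfl, chiU_mulSingle ib.2]
      show δ ^ chevG2.cartan ib 11 = δ
      rw [fixed_exps.1, _root_.zpow_one]
    rw [h1]
    congr 1
    funext j
    show δ⁻¹ ^ coef chevG2 11 j = _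
    rw [coroot_top]
    split_ifs
    · rw [_root_.zpow_one]
    · rw [show (2 : ℤ) = ((2 : ℕ) : ℤ) from rfl, zpow_natCast, pow_two]
  calc n * psi M * n⁻¹ = phi (slPart M) * (n * torusHom (Pi.mulSingle ib δ)) * n⁻¹ := by
        rw [psi_apply, ← mul_assoc, hphi, mul_assoc (phi _) n]; rfl
    _ = phi (slPart M) * torusHom (Pi.mulSingle ib δ * fun j => if j = ia then δ⁻¹ else δ⁻¹ * δ⁻¹) := by
        rw [htau, hc]; group
    _ = _ := by
        rw [map_mul psi, psi_apply, psi_scal, map_mul, ← mul_assoc]; rfl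

/-- The matrices whose images are conjugate to that of `X`. -/
def Cls (X Y : GL2) : Prop :=
  ∃ S : GL2, Y = S * X * S⁻¹ ∨ Y = S * (X * scal (Matrix.GeneralLinearGroup.det X)⁻¹) * S⁻¹

/-- The hypotheses on `X`. -/
def Admissible (X : GL2) : Prop :=
  Triv X ∧ Triv (X * scal (Matrix.GeneralLinearGroup.det X)⁻¹)

theorem Cls.spec {X Y : GL2} (hX : Admissible X) (h : Cls X Y) :
    Triv Y ∧ ∃ e ∈ chevG2.group F, psi Y = e * psi X * e⁻¹ := by
  obtain ⟨S, rfl | rfl⟩ := h
  · exact ⟨hX.1.conj S, psi S, psi_mem_group S, by rw [map_mul, map_mul, map_inv]⟩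
  · obtain ⟨n, hn, e⟩ := flip_det X
    refine ⟨hX.2.conj S, psi S * n, Subgroup.mul_mem _ (psi_mem_group S) hn, ?_⟩
    rw [map_mul psi, map_mul psi, map_inv, ← e]; group

/-- A matrix which is a product of two members of the class. -/
def Good (X M : GL2) : Prop := ∃ Y1 Y2, M = Y1 * Y2 ∧ Cls X Y1 ∧ Cls X Y2

theorem good_product [Finite F] {X M : GL2} (hX : Admissible X) (hM : Good X M) {g u v : GF}
    (hu : u ∈ negOther (F := F) ia) (hv : v ∈ radP (F := F) ia) (hg : Cj g (u * psi M * v)) :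
    ∃ a ∈ chevG2.group F, ∃ b ∈ chevG2.group F,
      g = (a * psi X * a⁻¹) * (b * psi X * b⁻¹) := by
  obtain ⟨Y1, Y2, rfl, h1, h2⟩ := hM
  obtain ⟨t1, e1, he1, heq1⟩ := h1.spec hX
  obtain ⟨t2, e2, he2, heq2⟩ := h2.spec hX
  obtain ⟨w1, hw1, hw1'⟩ := twist_surj_left
    (fun w hw => (Subgroup.mem_normalizer_iff''.1 (psi_norm_neg Y1) w).1 hw)
    (fun w hw h => t1.2 w hw h) hu
  obtain ⟨w2, hw2, hw2'⟩ := twist_surj
    (fun w hw => (Subgroup.mem_normalizer_iff''.1 (psi_norm_radP Y2) w).1 hw)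
    (fun w hw h => t2.1 w hw h) hv
  obtain ⟨e, he, heq⟩ := hg
  refine ⟨e⁻¹ * w1 * e1, Subgroup.mul_mem _ (Subgroup.mul_mem _ (Subgroup.inv_mem _ he)
      (neg_le_group (negOther_le ia hw1))) he1,
    e⁻¹ * w2 * e2, Subgroup.mul_mem _ (Subgroup.mul_mem _ (Subgroup.inv_mem _ he)
      (pos_le_group (otherRoots_le facts_chevG2.{u} (ia : ℕ) hw2))) he2, ?_⟩
  calc g = e⁻¹ * (e * g * e⁻¹) * e := by group
    _ = e⁻¹ * ((u * psi Y1) * (psi Y2 * v)) * e := by rw [heq, map_mul]; group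
    _ = _ := by rw [hw1', hw2', heq1, heq2]; group

/-- The element of the Levi factor between two radical parts. -/
theorem middle_of (c0 : F) {v : GF} (hv : v ∈ chevG2.posUnipotent F) (u1 : GF)
    (c : Fin chevG2.rank → Fˣ) :
    ∃ (a0 : F) (M : GL2), ∃ v1 ∈ radP (F := F) ia,
      (M : Matrix (Fin 2) (Fin 2) F) = !![1, 0; c0, 1] *
        !![(c ia : F), 0; 0, ((c ib / c ia : Fˣ) : F)] * !![1, a0; 0, 1] ∧
      (a0 = 0 ↔ v ∈ radP (F := F) ia) ∧
      u1 * xG facts_chevG2.{u} (negF facts_chevG2.{u} (sRoot facts_chevG2.{u} ia) : ℕ) c0 *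
        torusHom c * v = u1 * psi M * v1 := by
  obtain ⟨y, hy, a0, rfl⟩ := exists_split_simple facts_chevG2.{u} ia.2 hv
  let D : GL2 := ⟨!![(c ia : F), 0; 0, ((c ib / c ia : Fˣ) : F)],
    !![(((c ia)⁻¹ : Fˣ) : F), 0; 0, (((c ib / c ia)⁻¹ : Fˣ) : F)],
    by simp [Matrix.one_fin_two], by simp [Matrix.one_fin_two]⟩
  let L : GL2 := Matrix.SpecialLinearGroup.toGL (loS c0)
  let U : GL2 := Matrix.SpecialLinearGroup.toGL (upS a0)
  set x : GF := xG facts_chevG2.{u} (sRoot facts_chevG2.{u} ia : ℕ) a0 with hx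
  refine ⟨a0, L * D * U, x⁻¹ * y * x,
    (Subgroup.mem_normalizer_iff''.1 (simple_mem_normalizer facts_chevG2.{u} ia.2 a0).1 y).1 hy,
    rfl, ⟨fun h => ?_, fun h => ?_⟩, ?_⟩
  · rw [h, xG_zero, mul_one]; exact hy
  · have := Subgroup.mul_mem _ (Subgroup.inv_mem _ hy) h
    rw [inv_mul_cancel_left] at this
    exact eq_one_of_simple_mem_radP ia this
  rw [map_mul, map_mul, psi_det_one L (loS c0) rfl, psi_det_one U (upS a0) rfl, phi_lo, phi_up,
    psi_diag D (c ia) (c ib / c ia) rfl]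
  have : (fun j : Fin chevG2.rank => if j = ia then c ia else c ia * (c ib / c ia)) = c := by
    funext j
    have hab : ia ≠ ib := by decide +kernel
    rcases Chev.G2Odd.fin_cases_rank j with rfl | rfl
    · simp
    · simp [hab.symm]
  rw [this, ← hx, show xG facts_chevG2.{u} (chevG2.simple (ia : ℕ)) a0 = x from rfl]
  group

theorem psi_order {X : GL2} {k : ℕ} {l : Fˣ} (hk : X ^ k = scal l) [Fintype F] :
    (psi X : GF) ^ (k * (Fintype.card F - 1)) = 1 := by
  classical
  rw [pow_mul, ← map_pow, hk, psi_scal, ← map_pow]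
  have h1 : ∀ a : Fˣ, a ^ (Fintype.card F - 1) = 1 := fun a => by
    rw [← Fintype.card_units]; exact pow_card_eq_one
  rw [show (fun j : Fin chevG2.rank => if j = ia then l else l * l) ^ (Fintype.card F - 1) = 1 from
    funext fun j => h1 _, map_one]

end Cfsg.Agent.G2Square
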