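import Cfsg.Agent.Chev.G2Invol
import Cfsg.Agent.Chev.RankOne
import Cfsg.Agent.Chev.RegularTorus

/-!
A Gauss decomposition with prescribed torus part, up to conjugacy, in `G₂(F)`:
every non-identity element is conjugate to `u * t * v` for any given torus element `t`.
-/

set_option autoImplicit false
set_option maxRecDepth 100000

namespace Cfsg.Agent.G2Square

open Cfsg.Lie Cfsg.Agent.Chev
open Cfsg.Agent.Chev.G2Invol (ia ib words exists_word half_g2 nroots_eq)
open scoped MatrixGroups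

universe u


variable {F : Type u} [Field F]

local notation "GF" => GL chevG2.Idx F

/-- Conjugacy under the group. -/
def Cj (g h : GL chevG2.Idx F) : Prop := ∃ e ∈ chevG2.group F, e * g * e⁻¹ = h

theorem Cj.refl (g : GF) : Cj g g := ⟨1, Subgroup.one_mem _, by group⟩

theorem Cj.trans {g h k : GF} (h1 : Cj g h) (h2 : Cj h k) : Cj g k := by
  obtain ⟨e, he, rfl⟩ := h1
  obtain ⟨e', he', rfl⟩ := h2
  exact ⟨e' * e, Subgroup.mul_mem _ he' he, by group⟩

theorem pos_le_group : chevG2.posUnipotent F ≤ chevG2.group F :=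
  le_sup_left.trans (borel_le_group facts_chevG2.{u})

theorem torus_mem_group (c : Fin chevG2.rank → Fˣ) : (torusHom c : GF) ∈ chevG2.group F :=
  borel_le_group facts_chevG2.{u} (Subgroup.mem_sup_right (torusHom_mem facts_chevG2.{u} c))

theorem nWord_mem_group (w : List (Fin chevG2.rank)) : (nWord facts_chevG2.{u} w : GF) ∈ chevG2.group F :=
  monomial_le_group facts_chevG2.{u} (nWord_mem facts_chevG2.{u} w)

theorem torus_conj_pos (c : Fin chevG2.rank → Fˣ) {v : GF} (hv : v ∈ chevG2.posUnipotent F) :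
    (torusHom c : GF) * v * (torusHom c)⁻¹ ∈ chevG2.posUnipotent F :=
  (Subgroup.mem_normalizer_iff.1 (torusHom_mem_normalizer facts_chevG2.{u} c) v).1 hv

theorem torus_conj_pos' (c : Fin chevG2.rank → Fˣ) {v : GF} (hv : v ∈ chevG2.posUnipotent F) :
    (torusHom c : GF)⁻¹ * v * torusHom c ∈ chevG2.posUnipotent F := by
  have h := torus_conj_pos c⁻¹ hv
  rwa [map_inv, inv_inv] at h

theorem xG_pos {r : Fin chevG2.nroots} (h : half chevG2 ≤ (r : ℕ)) (t : F) :
    xG facts_chevG2.{u} r t ∈ chevG2.posUnipotent F :=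
  mem_posUnipotent_of facts_chevG2.{u} r.2 h t

/-! ### The longest element -/

/-- The word of the longest element. -/
def w0 : List (Fin chevG2.rank) := [ia, ib, ia, ib, ia, ib]

theorem w0_neg : ∀ r : Fin chevG2.nroots,
    pWord facts_chevG2.{0} w0 r = negF facts_chevG2.{0} r := by decide +kernel

theorem n0_root (r : Fin chevG2.nroots) : ∃ e : F, e ≠ 0 ∧ ∀ t : F,
    (nWord facts_chevG2.{u} w0 : GF) * xG facts_chevG2.{u} r t = xG facts_chevG2.{u} (negF facts_chevG2.{u} r : ℕ) (e * t) * nWord facts_chevG2.{u} w0 := by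
  obtain ⟨e, he, h⟩ := isMon_nWord facts_chevG2.{u} w0 (F := F) r
  exact ⟨e, he, fun t => by rw [h t, show pWord facts_chevG2.{u} w0 r = negF facts_chevG2.{u} r from w0_neg r]⟩

theorem map_pos : (chevG2.posUnipotent F).map (MulAut.conj (nWord facts_chevG2.{u} w0 : GF)).toMonoidHom =
    chevG2.negUnipotent F := by
  refine le_antisymm ?_ ?_
  · rw [ChevalleyDatum.posUnipotent, MonoidHom.map_closure]
    refine (Subgroup.closure_le _).2 ?_
    rintro x ⟨g, ⟨r, t, hr, e⟩, rfl⟩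
    obtain rfl : g = xG facts_chevG2.{u} r t := Units.ext e
    obtain ⟨k, -, hk⟩ := n0_root (F := F) ⟨r, hr.1⟩
    show nWord facts_chevG2.{u} w0 * xG facts_chevG2.{u} r t * (nWord facts_chevG2.{u} w0)⁻¹ ∈ chevG2.negUnipotent F
    rw [hk t, mul_inv_cancel_right]
    exact mem_negUnipotent_of facts_chevG2.{u} (negF facts_chevG2.{u} ⟨r, hr.1⟩).2
      ((neg_lt_half_iff facts_chevG2.{u} hr.1).2 (((facts_chevG2.{u}).posRoot_iff r hr.1).1 hr)) _
  · refine (Subgroup.closure_le _).2 ?_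
    rintro g ⟨r, t, hr, e⟩
    obtain rfl : g = xG facts_chevG2.{u} r t := Units.ext e
    obtain ⟨k, hk0, hk⟩ := n0_root (F := F) (negF facts_chevG2.{u} ⟨r, hr.1⟩)
    refine ⟨xG facts_chevG2.{u} (negF facts_chevG2.{u} ⟨r, hr.1⟩ : ℕ) (k⁻¹ * t), mem_posUnipotent_of facts_chevG2.{u} (negF facts_chevG2.{u} _).2
      ((pos_negF_iff facts_chevG2.{u} _).2 (((facts_chevG2.{u}).negRoot_iff r hr.1).1 hr)) _, ?_⟩
    show nWord facts_chevG2.{u} w0 * _ * (nWord facts_chevG2.{u} w0)⁻¹ = _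
    rw [hk, negF_negF, ← mul_assoc, mul_inv_cancel₀ hk0, one_mul, mul_inv_cancel_right]

/-- The negative root groups other than the one of a fundamental root. -/
noncomputable def negOther (i : Fin chevG2.rank) : Subgroup GF :=
  (Subgroup.closure (otherRoots facts_chevG2.{u} (i : ℕ))).map (MulAut.conj (nWord facts_chevG2.{u} w0 : GF)).toMonoidHom

theorem negOther_le (i : Fin chevG2.rank) : negOther i ≤ chevG2.negUnipotent F := by
  rw [← map_pos]
  exact Subgroup.map_mono (otherRoots_le facts_chevG2.{u} (i : ℕ))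

theorem exists_split_neg (i : Fin chevG2.rank) {u : GF} (hu : u ∈ chevG2.negUnipotent F) :
    ∃ u1 ∈ negOther (F := F) i, ∃ c : F, u = u1 * xG facts_chevG2.{u} (negF facts_chevG2.{u} (sRoot facts_chevG2.{u} i) : ℕ) c := by
  rw [← map_pos] at hu
  obtain ⟨v, hv, rfl⟩ := Subgroup.mem_map.1 hu
  obtain ⟨y, hy, t, rfl⟩ := exists_split_simple facts_chevG2.{u} i.2 hv
  obtain ⟨k, -, hk⟩ := n0_root (F := F) (sRoot facts_chevG2.{u} i)
  refine ⟨_, Subgroup.mem_map_of_mem _ hy, k * t, ?_⟩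
  show nWord facts_chevG2.{u} w0 * (y * xG facts_chevG2.{u} (sRoot facts_chevG2.{u} i : ℕ) t) * (nWord facts_chevG2.{u} w0)⁻¹ =
    nWord facts_chevG2.{u} w0 * y * (nWord facts_chevG2.{u} w0)⁻¹ * _
  rw [show k * t = k * t from rfl, ← mul_inv_cancel_right (xG facts_chevG2.{u} _ (k * t))
    (nWord facts_chevG2.{u} w0), ← hk t]
  group

theorem negOther_normalised (i : Fin chevG2.rank) (t : F) {u1 : GF} (hu : u1 ∈ negOther (F := F) i) :
    xG facts_chevG2.{u} (sRoot facts_chevG2.{u} i : ℕ) t * u1 * (xG facts_chevG2.{u} (sRoot facts_chevG2.{u} i : ℕ) t)⁻¹ ∈ negOther (F := F) i := by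
  obtain ⟨y, hy, rfl⟩ := Subgroup.mem_map.1 hu
  obtain ⟨k, hk0, hk⟩ := n0_root (F := F) (negF facts_chevG2.{u} (sRoot facts_chevG2.{u} i))
  rw [negF_negF] at hk
  set z : GF := xG facts_chevG2.{u} (negF facts_chevG2.{u} (sRoot facts_chevG2.{u} i) : ℕ) (k⁻¹ * t) with hz
  have hx : xG facts_chevG2.{u} (sRoot facts_chevG2.{u} i : ℕ) t = nWord facts_chevG2.{u} w0 * z * (nWord facts_chevG2.{u} w0)⁻¹ := by
    rw [hz, hk, ← mul_assoc, mul_inv_cancel₀ hk0, one_mul, mul_inv_cancel_right]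
  refine ⟨z * y * z⁻¹, (Subgroup.mem_normalizer_iff.1
    (simple_mem_normalizer facts_chevG2.{u} i.2 (k⁻¹ * t)).2 y).1 hy, ?_⟩
  rw [hx]
  show nWord facts_chevG2.{u} w0 * (z * y * z⁻¹) * (nWord facts_chevG2.{u} w0)⁻¹ =
    nWord facts_chevG2.{u} w0 * z * (nWord facts_chevG2.{u} w0)⁻¹ * (nWord facts_chevG2.{u} w0 * y * (nWord facts_chevG2.{u} w0)⁻¹) * _
  group

/-! ### One step of the descent -/

theorem simple_identity (i : Fin chevG2.rank) {t : F} (ht : t ≠ 0) :
    (xG facts_chevG2.{u} (sRoot facts_chevG2.{u} i : ℕ) t : GF) =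
      xG facts_chevG2.{u} (negF facts_chevG2.{u} (sRoot facts_chevG2.{u} i) : ℕ) t⁻¹ * nG facts_chevG2.{u} (sRoot facts_chevG2.{u} i : ℕ) t *
        xG facts_chevG2.{u} (negF facts_chevG2.{u} (sRoot facts_chevG2.{u} i) : ℕ) t⁻¹ := by
  obtain ⟨φ, hu, hl⟩ := hasSL2 facts_chevG2.{u} (sRoot facts_chevG2.{u} i).2 (F := F)
  let U : F → Matrix.SpecialLinearGroup (Fin 2) F := fun s => ⟨!![1, s; 0, 1], by simp [Matrix.det_fin_two]⟩
  let L : F → Matrix.SpecialLinearGroup (Fin 2) F := fun s => ⟨!![1, 0; s, 1], by simp [Matrix.det_fin_two]⟩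
  have e1 : ∀ s, φ (U s) = xG facts_chevG2.{u} (sRoot facts_chevG2.{u} i : ℕ) s := fun s => hu _ _ rfl
  have e2 : ∀ s, φ (L s) = xG facts_chevG2.{u} (negF facts_chevG2.{u} (sRoot facts_chevG2.{u} i) : ℕ) s := fun s => hl _ _ rfl
  have key : U t = L t⁻¹ * (U t * L (-t⁻¹) * U t) * L t⁻¹ := by
    apply Subtype.ext
    show !![1, t; 0, 1] = !![1, 0; t⁻¹, 1] * (!![1, t; 0, 1] * !![1, 0; -t⁻¹, 1] * !![1, t; 0, 1]) *
      !![1, 0; t⁻¹, 1]
    simp [ht]
  have := congrArg φ key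
  simp only [map_mul, e1, e2] at this
  exact this

theorem nS_sq (i : Fin chevG2.rank) :
    (nS facts_chevG2.{u} (i : ℕ) : GF) * nS facts_chevG2.{u} (i : ℕ) = torusHom (coH (chevG2.simple i) (-1)) := by
  set T : GF := torusHom (coH (chevG2.simple i) (-1)) with hT
  have h1 : (nS facts_chevG2.{u} (i : ℕ) : GF)⁻¹ = T * nS facts_chevG2.{u} (i : ℕ) := by
    rw [hT, ← nG_eq_torus_mul facts_chevG2.{u} i.2, Units.val_neg, Units.val_one, nS, nG_inv]
  have h3 : T * (nS facts_chevG2.{u} (i : ℕ) * nS facts_chevG2.{u} (i : ℕ)) = 1 := by rw [← mul_assoc, ← h1, inv_mul_cancel]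
  have h4 : T * T = 1 := by rw [hT, ← map_mul, ← map_mul, neg_mul_neg, one_mul, map_one, map_one]
  exact mul_left_cancel (h3.trans h4.symm)

/-- One step of the descent, keeping track of the torus part. -/
theorem step (i : Fin chevG2.rank) (w : List (Fin chevG2.rank))
    (hpos : half chevG2 ≤ (pWord facts_chevG2.{u} w.reverse (sRoot facts_chevG2.{u} i) : ℕ))
    {u : GF} (hu : u ∈ chevG2.negUnipotent F) (c : Fin chevG2.rank → Fˣ) {v : GF}
    (hv : v ∈ chevG2.posUnipotent F) (s : Fˣ) (a : Fin chevG2.rank → Fˣ)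
    (ha : (torusHom (coH (chevG2.simple i) s) : GF) * nWord facts_chevG2.{u} w = nWord facts_chevG2.{u} w * torusHom a) :
    ∃ u' ∈ chevG2.negUnipotent F, ∃ v' ∈ chevG2.posUnipotent F,
      Cj (u * nWord facts_chevG2.{u} (i :: w) * torusHom c * v) (u' * nWord facts_chevG2.{u} w * torusHom (a * c) * v') := by
  set G := facts_chevG2.{u}
  set p : Fin chevG2.nroots := sRoot facts_chevG2.{u} i with hp
  set r : Fin chevG2.nroots := pWord facts_chevG2.{u} w.reverse p with hr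
  have hr' : pWord facts_chevG2.{u} w r = p := by
    rw [hr, pWord_reverse]; simp
  set W : GF := nWord facts_chevG2.{u} w with hW
  set N : GF := nS facts_chevG2.{u} (i : ℕ) with hN
  obtain ⟨kw, hkw0, hkw⟩ := isMon_nWord facts_chevG2.{u} w (F := F) r
  obtain ⟨ki, hki0, hki⟩ := isMon_nS facts_chevG2.{u} i (F := F) p
  rw [hr', ← hW] at hkw
  rw [hp, wPerm_sRoot, ← hp, ← hN] at hki
  -- moving a root element of `-a_i` to the right
  have move : ∀ c0 : F, ∃ z ∈ chevG2.posUnipotent F,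
      xG facts_chevG2.{u} (negF facts_chevG2.{u} p : ℕ) c0 * N * W = N * W * z := by
    intro c0
    refine ⟨xG facts_chevG2.{u} (r : ℕ) (kw⁻¹ * (ki⁻¹ * c0)), xG_pos hpos _, ?_⟩
    rw [mul_assoc N W, hkw, ← mul_assoc kw, mul_inv_cancel₀ hkw0, one_mul, ← mul_assoc N, hki,
      ← mul_assoc ki, mul_inv_cancel₀ hki0, one_mul]
  obtain ⟨u1, hu1, c0, rfl⟩ := exists_split_neg i hu
  obtain ⟨z, hz, hz'⟩ := move c0
  have hnw : (nWord facts_chevG2.{u} (i :: w) : GF) = N * W := nWord_cons _ _ _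
  have hv1 : (torusHom c)⁻¹ * z * torusHom c * v ∈ chevG2.posUnipotent F :=
    Subgroup.mul_mem _ (torus_conj_pos' c hz) hv
  set v1 : GF := (torusHom c)⁻¹ * z * torusHom c * v with hv1d
  have e1 : u1 * xG facts_chevG2.{u} (negF facts_chevG2.{u} p : ℕ) c0 * nWord facts_chevG2.{u} (i :: w) *
      torusHom c * v = u1 * (N * W) * torusHom c * v1 := by
    rw [hnw, mul_assoc u1, ← mul_assoc (xG _ _ _) N, hz', hv1d]
    group
  rw [e1]
  set t : F := -((s : Fˣ) : F) with ht
  have ht0 : t ≠ 0 := neg_ne_zero.2 s.ne_zero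
  set x : GF := xG facts_chevG2.{u} (p : ℕ) t with hx
  have hu2 : x * u1 * x⁻¹ ∈ negOther (F := F) i := negOther_normalised i t hu1
  set u2 : GF := x * u1 * x⁻¹ with hu2d
  have hxv : v1 * x⁻¹ ∈ chevG2.posUnipotent F :=
    Subgroup.mul_mem _ hv1 (Subgroup.inv_mem _ (xG_pos ((facts_chevG2.{u}).simple_pos i i.2) t))
  obtain ⟨z2, hz2, hz2'⟩ := move t⁻¹
  have hnG : nG facts_chevG2.{u} (p : ℕ) t * N =
      torusHom (coH (chevG2.simple i) s) := by
    have h := nG_eq_torus_mul facts_chevG2.{u} i.2 (-s) (F := F)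
    rw [Units.val_neg, ← ht] at h
    show nG facts_chevG2.{u} (chevG2.simple i) t * N = _
    rw [h, mul_assoc, hN, nS_sq, ← map_mul, ← map_mul, neg_mul_neg, mul_one]
  refine ⟨u2 * xG facts_chevG2.{u} (negF facts_chevG2.{u} p : ℕ) t⁻¹,
    Subgroup.mul_mem _ (negOther_le i hu2)
      (mem_negUnipotent_of facts_chevG2.{u} (negF facts_chevG2.{u} p).2
        ((neg_lt_half_iff facts_chevG2.{u} p.2).2 ((facts_chevG2.{u}).simple_pos i i.2)) _),
    (torusHom (a * c))⁻¹ * (torusHom a * z2 * torusHom c) * (v1 * x⁻¹), ?_, x,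
    xG_mem_group facts_chevG2.{u} _ _, ?_⟩
  · refine Subgroup.mul_mem _ ?_ hxv
    have : (torusHom (a * c) : GF)⁻¹ * (torusHom a * z2 * torusHom c) =
        (torusHom c)⁻¹ * z2 * torusHom c := by rw [map_mul]; group
    rw [this]; exact torus_conj_pos' c hz2
  · have key : x * (N * W) =
        xG facts_chevG2.{u} (negF facts_chevG2.{u} p : ℕ) t⁻¹ * (W * torusHom a) * z2 := by
      rw [hx, hp, simple_identity i ht0, ← hp, ← ha]
      calc _ = xG facts_chevG2.{u} (negF facts_chevG2.{u} p : ℕ) t⁻¹ *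
            (nG facts_chevG2.{u} (p : ℕ) t *
              (xG facts_chevG2.{u} (negF facts_chevG2.{u} p : ℕ) t⁻¹ * N * W)) := by group
        _ = xG facts_chevG2.{u} (negF facts_chevG2.{u} p : ℕ) t⁻¹ *
            (nG facts_chevG2.{u} (p : ℕ) t * N * W) * z2 := by rw [hz2']; group
        _ = _ := by rw [hnG]
    calc x * (u1 * (N * W) * torusHom c * v1) * x⁻¹
        = u2 * (x * (N * W)) * torusHom c * (v1 * x⁻¹) := by rw [hu2d]; group
      _ = _ := by rw [key, map_mul]; group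

/-! ### The start and the descent -/

/-- The form at which the descent operates. -/
def Form (w : List (Fin chevG2.rank)) (c : Fin chevG2.rank → Fˣ) (g : GF) : Prop :=
  ∃ u ∈ chevG2.negUnipotent F, ∃ v ∈ chevG2.posUnipotent F,
    Cj g (u * nWord facts_chevG2.{u} w * torusHom c * v)

theorem Form.of_cj {w : List (Fin chevG2.rank)} {c : Fin chevG2.rank → Fˣ} {g g' : GF}
    (h : Form w c g') (hg : Cj g g') : Form w c g := by
  obtain ⟨u, hu, v, hv, e⟩ := h
  exact ⟨u, hu, v, hv, hg.trans e⟩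

theorem Form.step {i : Fin chevG2.rank} {w : List (Fin chevG2.rank)}
    (hpos : half chevG2 ≤ (pWord facts_chevG2.{u} w.reverse (sRoot facts_chevG2.{u} i) : ℕ))
    {c : Fin chevG2.rank → Fˣ} {g : GF} (h : Form (i :: w) c g) (s : Fˣ)
    {a : Fin chevG2.rank → Fˣ}
    (ha : (torusHom (coH (chevG2.simple i) s) : GF) * nWord facts_chevG2.{u} w =
      nWord facts_chevG2.{u} w * torusHom a) : Form w (a * c) g := by
  obtain ⟨u, hu, v, hv, e⟩ := h
  obtain ⟨u', hu', v', hv', e'⟩ := G2Square.step i w hpos hu c hv s a ha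
  exact ⟨u', hu', v', hv', e.trans e'⟩

theorem to_cell {g : GF} (hg : g ∈ chevG2.group F) :
    ∃ w ∈ words, ∃ c, (∃ v ∈ chevG2.posUnipotent F,
      Cj g (nWord facts_chevG2.{u} w * torusHom c * v)) ∧
      (g ∉ chevG2.borelSubgroup F → w ≠ []) := by
  obtain ⟨b, hb, w, x, hx, rfl⟩ := exists_normalForm facts_chevG2.{u} hg
  obtain ⟨w', hw', he⟩ := exists_word.{u} w
  have hxU : x ∈ chevG2.borelSubgroup F := uMinus_le_borel facts_chevG2.{u} _ hx
  have hmon : IsMon facts_chevG2.{u} ((nWord facts_chevG2.{u} w' : GF)⁻¹ *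
      nWord facts_chevG2.{u} w) 1 := by
    have h1 := isMon_monPerm facts_chevG2.{u}
      (Subgroup.inv_mem _ (nWord_mem facts_chevG2.{u} w' (F := F)))
    have h2 := isMon_mul facts_chevG2.{u} (isMon_nWord facts_chevG2.{u} w') h1
    rw [mul_inv_cancel] at h2
    have h3 := isMon_unique facts_chevG2.{u} h2 (isMon_one facts_chevG2.{u})
    rw [eq_inv_of_mul_eq_one_right h3] at h1
    have h4 := isMon_mul facts_chevG2.{u} h1 (isMon_nWord facts_chevG2.{u} w)
    rwa [he, inv_mul_cancel] at h4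
  obtain ⟨d, hd⟩ := (mem_diagonal_iff facts_chevG2.{u}).1 (mem_diagonal_of_isMon_one facts_chevG2.{u}
    (Subgroup.mul_mem _ (Subgroup.inv_mem _ (nWord_mem facts_chevG2.{u} w'))
      (nWord_mem facts_chevG2.{u} w)) hmon)
  have hB : torusHom d * x * b ∈ chevG2.borelSubgroup F :=
    Subgroup.mul_mem _ (Subgroup.mul_mem _ (Subgroup.mem_sup_right
      (torusHom_mem facts_chevG2.{u} d)) hxU) hb
  obtain ⟨v, hv, c, hvc⟩ := (mem_borel_iff facts_chevG2.{u}).1 hB
  refine ⟨w', hw', c, ⟨(torusHom c)⁻¹ * v * torusHom c,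
    torus_conj_pos' c hv, b⁻¹, Subgroup.inv_mem _ (borel_le_group facts_chevG2.{u} hb), ?_⟩, ?_⟩
  · calc b⁻¹ * (b * nWord facts_chevG2.{u} w * x) * b⁻¹⁻¹
        = nWord facts_chevG2.{u} w' * ((nWord facts_chevG2.{u} w')⁻¹ * nWord facts_chevG2.{u} w) *
            x * b := by group
      _ = _ := by rw [← hd, mul_assoc _ (torusHom d), mul_assoc _ (torusHom d * x), hvc]; group
  · rintro hne rfl
    refine hne ?_
    have e0 : (nWord facts_chevG2.{u} w : GF) = torusHom d := by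
      rw [hd]; simp [nWord]
    rw [e0]
    exact Subgroup.mul_mem _ (Subgroup.mul_mem _ hb
      (Subgroup.mem_sup_right (torusHom_mem facts_chevG2.{u} d))) hxU

theorem exists_not_borel {g : GF} (hg : g ∈ chevG2.group F) (hne : g ≠ 1) :
    ∃ g' ∈ chevG2.group F, g' ∉ chevG2.borelSubgroup F ∧ Cj g g' := by
  by_contra hno
  push Not at hno
  have hH : ∀ g' ∈ chevG2.group F, Cj g g' → g' ∈ chevG2.diagonalSubgroup F := by
    intro g' hg' hcj
    have h1 : g' ∈ chevG2.borelSubgroup F := by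
      by_contra h; exact (hno g' hg' h) hcj
    set n : GF := nWord facts_chevG2.{u} w0 with hnd
    have hn : n ∈ chevG2.group F := nWord_mem_group _
    have hg2 : n⁻¹ * g' * n⁻¹⁻¹ ∈ chevG2.group F :=
      Subgroup.mul_mem _ (Subgroup.mul_mem _ (Subgroup.inv_mem _ hn) hg')
        (Subgroup.inv_mem _ (Subgroup.inv_mem _ hn))
    have h2 : n⁻¹ * g' * n⁻¹⁻¹ ∈ chevG2.borelSubgroup F := by
      by_contra h
      exact hno _ hg2 h (hcj.trans ⟨n⁻¹, Subgroup.inv_mem _ hn, rfl⟩)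
    obtain ⟨v, hv, c, hvc⟩ := (mem_borel_iff facts_chevG2.{u}).1 h2
    rw [← borel_inf_negBorel facts_chevG2.{u}]
    refine Subgroup.mem_inf.2 ⟨h1, ?_⟩
    obtain ⟨c', hc'⟩ := nWord_torus facts_chevG2.{u} w0 c (F := F)
    have : g' = n * v * n⁻¹ * torusHom c' := by
      rw [show g' = n * (n⁻¹ * g' * n⁻¹⁻¹) * n⁻¹ by group, hvc, ← mul_inv_cancel_right (torusHom c') n,
        ← hc', ← hnd]
      group
    rw [this]
    refine Subgroup.mul_mem _ (Subgroup.mem_sup_left ?_)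
      (Subgroup.mem_sup_right (torusHom_mem facts_chevG2.{u} c'))
    rw [← map_pos]
    exact Subgroup.mem_map_of_mem _ hv
  obtain ⟨c, rfl⟩ := (mem_diagonal_iff facts_chevG2.{u}).1 (hH g hg (Cj.refl g))
  apply hne
  have hpos : ∀ r : Fin chevG2.nroots, half chevG2 ≤ (r : ℕ) → chiU c (r : ℕ) = 1 := by
    intro r hr
    set x : GF := xG facts_chevG2.{u} (r : ℕ) 1
    have hx : x ∈ chevG2.group F := xG_mem_group facts_chevG2.{u} _ _
    have h := hH (x * torusHom c * x⁻¹) (Subgroup.mul_mem _ (Subgroup.mul_mem _ hx hg)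
      (Subgroup.inv_mem _ hx)) ⟨x, hx, rfl⟩
    have e : x * torusHom c * x⁻¹ = xG facts_chevG2.{u} (r : ℕ) (1 - (chiU c r : F)) * torusHom c := by
      rw [xG_inv, mul_assoc, torusHom_conj facts_chevG2.{u} c r.2, ← mul_assoc, xG_mul, mul_neg,
        mul_one, sub_eq_add_neg]
    rw [e] at h
    have h3 : xG facts_chevG2.{u} (r : ℕ) (1 - (chiU c r : F)) ∈
        chevG2.posUnipotent F ⊓ chevG2.diagonalSubgroup F :=
      Subgroup.mem_inf.2 ⟨xG_pos hr _, by
        have := Subgroup.mul_mem _ h (Subgroup.inv_mem _ (torusHom_mem facts_chevG2.{u} c))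
        rwa [mul_inv_cancel_right] at this⟩
    rw [posUnipotent_inf_diagonal facts_chevG2.{u}, Subgroup.mem_bot,
      xG_eq_one_iff facts_chevG2.{u} r.2, sub_eq_zero] at h3
    exact Units.ext h3.symm
  refine (torusHom_eq_one_iff c).2 fun r => ?_
  by_cases hr : half chevG2 ≤ (r : ℕ)
  · exact hpos r hr
  · have h := hpos (negF facts_chevG2.{u} r) ((pos_negF_iff facts_chevG2.{u} r).2 (not_le.1 hr))
    rw [show ((negF facts_chevG2.{u} r : Fin chevG2.nroots) : ℕ) = chevG2.neg r from rfl,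
      chiU_neg facts_chevG2.{u} c r.2, inv_eq_one] at h
    exact h

theorem prepend_pos : ∀ i j : Fin chevG2.rank, i ≠ j →
    half chevG2 ≤ (pWord facts_chevG2.{0} [j, i, j] (negF facts_chevG2.{0}
      (sRoot facts_chevG2.{0} j)) : ℕ) ∧ [j, i, j] ∈ words := by decide +kernel

theorem tail_pos : ∀ v ∈ words, v ≠ [] → v.tail ∈ words ∧ ∀ i ∈ v.head?,
    half chevG2 ≤ (pWord facts_chevG2.{0} v.tail.reverse (sRoot facts_chevG2.{0} i) : ℕ) := by
  decide +kernel

theorem long_cell {g : GF} (hg : g ∈ chevG2.group F) (hne : g ≠ 1) :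
    ∃ w ∈ words, 2 ≤ w.length ∧ ∃ c, Form w c g := by
  obtain ⟨g', hg', hnb, hcj⟩ := exists_not_borel hg hne
  obtain ⟨w, hw, c, ⟨v, hv, e⟩, hw0⟩ := to_cell hg'
  specialize hw0 hnb
  by_cases h2 : 2 ≤ w.length
  · exact ⟨w, hw, h2, c, 1, Subgroup.one_mem _, v, hv, by rw [one_mul]; exact hcj.trans e⟩
  obtain ⟨i, rfl⟩ : ∃ i, w = [i] := by
    rcases w with _ | ⟨i, _ | ⟨k, l⟩⟩
    · exact absurd rfl hw0
    · exact ⟨i, rfl⟩
    · simp at h2
  obtain ⟨j, hj⟩ : ∃ j : Fin chevG2.rank, i ≠ j := by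
    have : ∀ i : Fin chevG2.rank, ∃ j : Fin chevG2.rank, i ≠ j := by decide +kernel
    exact this i
  -- move the unipotent part and conjugate by the other fundamental reflection
  have hN : (nS facts_chevG2.{u} (j : ℕ) : GF) ∈ chevG2.group F := nG_mem_group facts_chevG2.{u} _ _
  set N : GF := nS facts_chevG2.{u} (j : ℕ) with hNd
  set M : GF := nS facts_chevG2.{u} (i : ℕ) with hMd
  obtain ⟨y, hy, t, rfl⟩ := exists_split_simple facts_chevG2.{u} j.2 hv
  obtain ⟨k, -, hk⟩ := isMon_nS facts_chevG2.{u} j (F := F) (sRoot facts_chevG2.{u} j)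
  rw [wPerm_sRoot, ← hNd] at hk
  set q : Fin chevG2.nroots := negF facts_chevG2.{u} (sRoot facts_chevG2.{u} j) with hq
  have hy' : N * y * N⁻¹ ∈ Subgroup.closure (otherRoots facts_chevG2.{u} (j : ℕ) (F := F)) :=
    nS_conj_other facts_chevG2.{u} j.2 hy
  set X : GF := xG facts_chevG2.{u} (q : ℕ) (k * t) with hX
  have hy'' : X⁻¹ * (N * y * N⁻¹) * X ∈
      Subgroup.closure (otherRoots facts_chevG2.{u} (j : ℕ) (F := F)) :=
    (Subgroup.mem_normalizer_iff''.1 (simple_mem_normalizer facts_chevG2.{u} j.2 (k * t)).2 _).1 hy'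
  set y'' : GF := X⁻¹ * (N * y * N⁻¹) * X with hy''d
  have hT : ∃ f : Fin chevG2.rank → Fˣ, (torusHom c : GF) * N⁻¹ = N * torusHom f := by
    obtain ⟨d, hd⟩ := nS_inv facts_chevG2.{u} j (F := F)
    obtain ⟨a, ha⟩ := torus_nWord facts_chevG2.{u} [j] c (F := F)
    have hsingle : (nWord facts_chevG2.{u} [j] : GF) = N := by simp [nWord, hNd]
    rw [hsingle] at ha
    exact ⟨a * d, by rw [hNd, hd, ← hNd, ← mul_assoc, ha, mul_assoc, ← map_mul]⟩
  obtain ⟨f, hf⟩ := hT
  have hjij : (nWord facts_chevG2.{u} [j, i, j] : GF) = N * M * N := by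
    simp [nWord, hNd, hMd, mul_assoc]
  obtain ⟨hpp, hjw⟩ := prepend_pos i j hj
  obtain ⟨l, -, hl⟩ := isMon_nWord facts_chevG2.{u} [j, i, j] (F := F) q
  set R : GF := xG facts_chevG2.{u} (pWord facts_chevG2.{u} [j, i, j] q : ℕ)
    (l * ((chiU f q : F) * (k * t))) with hR
  have hRU : R ∈ chevG2.posUnipotent F := xG_pos hpp _
  refine ⟨[j, i, j], hjw, by simp, f, 1, Subgroup.one_mem _, y'' * R,
    Subgroup.mul_mem _ (otherRoots_le facts_chevG2.{u} (j : ℕ) hy'') hRU, ?_⟩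
  refine hcj.trans (e.trans (Cj.trans ⟨N, hN, rfl⟩ ⟨R⁻¹, Subgroup.inv_mem _ (pos_le_group hRU), ?_⟩))
  have hXd : N * xG facts_chevG2.{u} (chevG2.simple j) t * N⁻¹ = X := by
    rw [hX, mul_inv_eq_iff_eq_mul]; exact hk t
  have hRd : (nWord facts_chevG2.{u} [j, i, j] : GF) * torusHom f * X =
      R * (nWord facts_chevG2.{u} [j, i, j] * torusHom f) := by
    rw [hX, mul_assoc, torusHom_conj facts_chevG2.{u} f q.2, ← mul_assoc, hl, hR, mul_assoc]
  have hsingle : (nWord facts_chevG2.{u} [i] : GF) = M := by simp [nWord, hMd]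
  rw [hsingle]
  calc R⁻¹ * (N * (M * torusHom c * (y * xG facts_chevG2.{u} (chevG2.simple j) t)) * N⁻¹) * R⁻¹⁻¹
      = R⁻¹ * (N * M * (torusHom c * N⁻¹) * (N * y * N⁻¹) *
          (N * xG facts_chevG2.{u} (chevG2.simple j) t * N⁻¹)) * R := by group
    _ = R⁻¹ * (N * M * N * torusHom f * X * y'') * R := by rw [hf, hXd, hy''d]; group
    _ = _ := by rw [← hjij, hRd]; group

theorem descend : ∀ (w : List (Fin chevG2.rank)), w ∈ words → 2 ≤ w.length →
    ∀ (c : Fin chevG2.rank → Fˣ) (g : GF), Form w c g →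
      ∃ i j : Fin chevG2.rank, [i, j] ∈ words ∧ ∃ c', Form [i, j] c' g := by
  intro w
  induction w with
  | nil => intro _ h; simp at h
  | cons i w ih =>
    intro hw h2 c g hform
    rcases w with _ | ⟨j, _ | ⟨k, l⟩⟩
    · simp at h2
    · exact ⟨i, j, hw, c, hform⟩
    · obtain ⟨ht, hp⟩ := tail_pos (i :: j :: k :: l) hw (by simp)
      obtain ⟨a, ha⟩ := torus_nWord facts_chevG2.{u} (j :: k :: l)
        (coH (chevG2.simple i) (1 : Fˣ)) (F := F)
      have hp' : half chevG2 ≤ (pWord facts_chevG2.{u} (j :: k :: l).reverse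
          (sRoot facts_chevG2.{u} i) : ℕ) := hp i rfl
      exact ih ht (by simp) _ g (hform.step hp' 1 ha)

theorem pair_facts : ∀ i j : Fin chevG2.rank, [i, j] ∈ words → i ≠ j := by decide +kernel

/-- Every non-identity element is conjugate to `u * t * v` with any prescribed torus part. -/
theorem gauss {g : GF} (hg : g ∈ chevG2.group F) (hne : g ≠ 1) (c : Fin chevG2.rank → Fˣ) :
    ∃ u ∈ chevG2.negUnipotent F, ∃ v ∈ chevG2.posUnipotent F, Cj g (u * torusHom c * v) := by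
  obtain ⟨w, hw, h2, c0, h0⟩ := long_cell hg hne
  obtain ⟨i, j, hij, c1, h1⟩ := descend w hw h2 c0 g h0
  have hne' := pair_facts i j hij
  obtain ⟨ht, hp⟩ := tail_pos [i, j] hij (by simp)
  have hsingle : (nWord facts_chevG2.{u} [j] : GF) = nS facts_chevG2.{u} (j : ℕ) := by simp [nWord]
  -- first coordinate
  set s : Fˣ := c i / c1 i with hs
  set a : Fin chevG2.rank → Fˣ := coH (chevG2.simple i) s *
    Pi.mulSingle j (chiU (coH (chevG2.simple i) s) (chevG2.simple j) : Fˣ)⁻¹ with ha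
  have haT : (torusHom (coH (chevG2.simple i) s) : GF) * nWord facts_chevG2.{u} [j] =
      nWord facts_chevG2.{u} [j] * torusHom a := by
    rw [hsingle]
    have hT : ∀ d : Fin chevG2.rank → Fˣ, (torusHom d : GF) * nS facts_chevG2.{u} (j : ℕ) =
        nS facts_chevG2.{u} (j : ℕ) *
          torusHom (d * Pi.mulSingle j (chiU d (chevG2.simple j))⁻¹) := by
      intro d
      obtain ⟨f, hf⟩ := nS_inv facts_chevG2.{u} j (F := F)
      have h := nS_conj_torus facts_chevG2.{u} j.2 d (F := F)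
      rw [Fin.eta] at h
      set N : GF := nS facts_chevG2.{u} (j : ℕ) with hNd
      set e := d * Pi.mulSingle j (chiU d (chevG2.simple j))⁻¹
      have h1 : N⁻¹ * torusHom d * N = torusHom e := by
        calc N⁻¹ * torusHom d * N = N * torusHom f * torusHom d * (N * torusHom f)⁻¹ := by
              rw [← hf, inv_inv]
          _ = N * torusHom d * N⁻¹ := by rw [mul_assoc N, ← map_mul, mul_comm f, map_mul]; group
          _ = _ := by rw [h, mul_inv_cancel_right]
      rw [← h1]; group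
    exact hT _
  have hp' : half chevG2 ≤ (pWord facts_chevG2.{u} [j].reverse
      (sRoot facts_chevG2.{u} i) : ℕ) := hp i rfl
  have h3 : Form [j] (a * c1) g := h1.step hp' s haT
  -- second coordinate
  set s' : Fˣ := c j / (a * c1) j with hs'
  have h4 : Form [] (coH (chevG2.simple j) s' * (a * c1)) g :=
    h3.step (by simpa [pWord, sRoot] using (facts_chevG2.{u}).simple_pos j j.2) s'
      (by simp [nWord])
  have hc : coH (chevG2.simple j) s' * (a * c1) = c := by
    rw [coH_simple facts_chevG2.{u} j.2, ha, coH_simple facts_chevG2.{u} i.2, Fin.eta, Fin.eta]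
    funext k
    have hk : k = i ∨ k = j := by
      have : ∀ i j k : Fin chevG2.rank, i ≠ j → k = i ∨ k = j := by decide +kernel
      exact this i j k hne'
    rcases hk with rfl | rfl
    · simp [hs, hne']
    · simp [hs', ha, coH_simple facts_chevG2.{u} i.2]
  rw [hc] at h4
  obtain ⟨u, hu, v, hv, e⟩ := h4
  exact ⟨u, hu, v, hv, by simpa [nWord] using e⟩

end Cfsg.Agent.G2Square
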