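import Cfsg.Agent.G2Square.Torus
import Cfsg.Agent.Chev.RankOne
import Cfsg.Agent.Chev.TopRoot
import Cfsg.Agent.Chev.G2Odd
import Mathlib.LinearAlgebra.Matrix.GeneralLinearGroup.Defs

/-!
The Levi factor of a short fundamental root in `G₂(F)`, as an image of `GL₂(F)`.
-/

set_option autoImplicit false
set_option maxRecDepth 100000

namespace Cfsg.Agent.G2Square

open Cfsg.Lie Cfsg.Agent.Chev Matrix
open Cfsg.Agent.Chev.G2Invol (ia ib words half_g2 nroots_eq)
open scoped MatrixGroups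

universe u

variable {F : Type u} [Field F]

local notation "GF" => GL chevG2.Idx F
local notation "SL2" => Matrix.SpecialLinearGroup (Fin 2) F
local notation "GL2" => GL (Fin 2) F

/-- The upper unitriangular element. -/
def upS (t : F) : SL2 := ⟨!![1, t; 0, 1], by simp [det_fin_two]⟩

/-- The lower unitriangular element. -/
def loS (t : F) : SL2 := ⟨!![1, 0; t, 1], by simp [det_fin_two]⟩

theorem sl_ext {A B : SL2}
    (h : (A : Matrix (Fin 2) (Fin 2) F) = (B : Matrix (Fin 2) (Fin 2) F)) : A = B := Subtype.ext h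

theorem upS_val (t : F) : ((upS t : SL2) : Matrix (Fin 2) (Fin 2) F) = !![1, t; 0, 1] := rfl

theorem loS_val (t : F) : ((loS t : SL2) : Matrix (Fin 2) (Fin 2) F) = !![1, 0; t, 1] := rfl

/-- The homomorphism of the short fundamental root. -/
noncomputable def phi : SL2 →* GF :=
  (hasSL2 facts_chevG2.{u} (sRoot facts_chevG2.{u} ia).2 (F := F)).choose

theorem phi_up (t : F) : phi (upS t) = xG facts_chevG2.{u} (sRoot facts_chevG2.{u} ia : ℕ) t :=
  (hasSL2 facts_chevG2.{u} (sRoot facts_chevG2.{u} ia).2 (F := F)).choose_spec.1 _ _ rfl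

theorem phi_lo (t : F) :
    phi (loS t) = xG facts_chevG2.{u} (negF facts_chevG2.{u} (sRoot facts_chevG2.{u} ia) : ℕ) t :=
  (hasSL2 facts_chevG2.{u} (sRoot facts_chevG2.{u} ia).2 (F := F)).choose_spec.2 _ _ rfl

theorem weyl_eq : (SL2Data.weyl : SL2) = upS 1 * loS (-1) * upS 1 := by
  apply sl_ext
  rw [Matrix.SpecialLinearGroup.coe_mul, Matrix.SpecialLinearGroup.coe_mul, upS_val, loS_val]
  show !![0, 1; -1, 0] = _
  simp

theorem phi_mem {H : Subgroup GF}
    (hu : ∀ t : F, xG facts_chevG2.{u} (sRoot facts_chevG2.{u} ia : ℕ) t ∈ H)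
    (hl : ∀ t : F, xG facts_chevG2.{u} (negF facts_chevG2.{u} (sRoot facts_chevG2.{u} ia) : ℕ) t ∈ H)
    (S : SL2) : phi S ∈ H := by
  have hS : S ∈ Submonoid.closure (Set.range (SL2Data.upper (F := F)) ∪ {SL2Data.weyl}) := by
    rw [SL2Data.closure_generators]; trivial
  induction hS using Submonoid.closure_induction with
  | mem x hx =>
    rcases hx with ⟨b, rfl⟩ | rfl
    · rw [show SL2Data.upper b = upS b from rfl, phi_up]; exact hu b
    · rw [weyl_eq, map_mul, map_mul, phi_up, phi_lo]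
      exact H.mul_mem (H.mul_mem (hu _) (hl _)) (hu _)
  | one => rw [map_one]; exact H.one_mem
  | mul x y _ _ hx hy => rw [map_mul]; exact H.mul_mem hx hy

/-- Two homomorphisms on `SL₂` agreeing on root elements are equal. -/
theorem sl2_hom_ext {G : Type*} [Group G] {f g : SL2 →* G} (h1 : ∀ t, f (upS t) = g (upS t))
    (h2 : ∀ t, f (loS t) = g (loS t)) (S : SL2) : f S = g S := by
  have hS : S ∈ Submonoid.closure (Set.range (SL2Data.upper (F := F)) ∪ {SL2Data.weyl}) := by
    rw [SL2Data.closure_generators]; trivial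
  induction hS using Submonoid.closure_induction with
  | mem x hx =>
    rcases hx with ⟨b, rfl⟩ | rfl
    · exact h1 b
    · rw [weyl_eq, map_mul, map_mul, map_mul, map_mul, h1, h2]
  | one => rw [map_one, map_one]
  | mul x y _ _ hx hy => rw [map_mul, map_mul, hx, hy]

theorem simple_ia : chevG2.simple ia = 7 ∧ chevG2.simple ib = 6 := by decide +kernel

theorem phi_diag (S : SL2) (a : Fˣ) (hS : (S : Matrix (Fin 2) (Fin 2) F) = !![(a : F), 0; 0, (a⁻¹ : Fˣ)]) :
    phi S = torusHom (coH (chevG2.simple ia) a) := by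
  have ha : (a : F) ≠ 0 := a.ne_zero
  have e : S = (upS (a : F) * loS (-(a : F)⁻¹) * upS (a : F)) * (upS (-1) * loS 1 * upS (-1)) := by
    apply sl_ext
    rw [hS]
    simp only [Matrix.SpecialLinearGroup.coe_mul, upS_val, loS_val]
    simp [ha]
  rw [e, ← hG_eq_torus facts_chevG2.{u} ((facts_chevG2.{u}).simple_lt ia ia.2)]
  simp only [map_mul, phi_up, phi_lo]
  simp only [hG, nG, inv_neg, inv_one, neg_neg]
  rfl

/-- The element `(1, δ)` of the torus. -/
noncomputable def tau : Fˣ →* GF where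
  toFun δ := torusHom (Pi.mulSingle ib δ)
  map_one' := by rw [Pi.mulSingle_one, map_one]
  map_mul' a b := by rw [Pi.mulSingle_mul, map_mul]

theorem cartan_ib : chevG2.cartan ib (sRoot facts_chevG2.{0} ia : ℕ) = -1 := by decide +kernel

/-- Conjugation by `diag(1, δ)` on `SL₂`. -/
def sigmaFun (δ : Fˣ) (g : SL2) : SL2 :=
  ⟨!![g.1 0 0, (δ⁻¹ : Fˣ) * g.1 0 1; (δ : F) * g.1 1 0, g.1 1 1], by
    have := SL2Data.det_eq g
    rw [det_fin_two]
    simp only [of_apply, cons_val', cons_val_zero, cons_val_one, empty_val', cons_val_fin_one]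
    linear_combination this - g.1 0 1 * g.1 1 0 * (Units.inv_mul δ)⟩

theorem sigmaFun_val (δ : Fˣ) (g : SL2) :
    ((sigmaFun δ g : SL2) : Matrix (Fin 2) (Fin 2) F) =
      !![g.1 0 0, (δ⁻¹ : Fˣ) * g.1 0 1; (δ : F) * g.1 1 0, g.1 1 1] := rfl

theorem sigmaFun_mul (δ : Fˣ) (g h : SL2) :
    sigmaFun δ (g * h) = sigmaFun δ g * sigmaFun δ h := by
  have hd : (δ : F)⁻¹ * δ = 1 := inv_mul_cancel₀ δ.ne_zero
  apply sl_ext
  rw [Matrix.SpecialLinearGroup.coe_mul, sigmaFun_val, sigmaFun_val, sigmaFun_val,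
    Matrix.SpecialLinearGroup.coe_mul]
  ext i j
  fin_cases i <;> fin_cases j <;> simp [Matrix.mul_apply, Fin.sum_univ_two, Units.val_inv_eq_inv_val]
  · linear_combination (-(g.1 0 1 * h.1 1 0)) * hd
  · ring
  · ring
  · linear_combination (-(g.1 1 0 * h.1 0 1)) * hd

/-- The homomorphism given by conjugation by `diag(1, δ)`. -/
def sigma (δ : Fˣ) : SL2 →* SL2 := MonoidHom.mk' (sigmaFun δ) (sigmaFun_mul δ)

theorem sigma_val (δ : Fˣ) (g : SL2) :
    ((sigma δ g : SL2) : Matrix (Fin 2) (Fin 2) F) =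
      !![g.1 0 0, (δ⁻¹ : Fˣ) * g.1 0 1; (δ : F) * g.1 1 0, g.1 1 1] := rfl

theorem tau_phi (δ : Fˣ) (S : SL2) : tau δ * phi S = phi (sigma δ S) * tau δ := by
  have h : ∀ S : SL2, ((MulAut.conj (tau δ : GF)).toMonoidHom.comp phi) S =
      (phi.comp (sigma δ)) S := by
    have hchi : chiU (Pi.mulSingle ib δ) (sRoot facts_chevG2.{u} ia : ℕ) = δ⁻¹ := by
      rw [show (ib : Fin chevG2.rank) = ⟨ib, ib.2⟩ from rfl, chiU_mulSingle ib.2,
        show chevG2.cartan ib (sRoot facts_chevG2.{u} ia : ℕ) = -1 from cartan_ib, _root_.zpow_neg_one]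
    refine sl2_hom_ext (fun t => ?_) (fun t => ?_)
    · show torusHom (Pi.mulSingle ib δ) * phi (upS t) * (torusHom (Pi.mulSingle ib δ))⁻¹ = _
      rw [phi_up, torusHom_conj facts_chevG2.{u} _ (sRoot facts_chevG2.{u} ia).2, hchi,
        mul_inv_cancel_right]
      show _ = phi (sigma δ (upS t))
      rw [show sigma δ (upS t) = upS ((δ⁻¹ : Fˣ) * t) from sl_ext (by rw [sigma_val, upS_val]; simp [upS]), phi_up]
    · show torusHom (Pi.mulSingle ib δ) * phi (loS t) * (torusHom (Pi.mulSingle ib δ))⁻¹ = _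
      rw [phi_lo, torusHom_conj facts_chevG2.{u} _ (negF facts_chevG2.{u} _).2,
        show (negF facts_chevG2.{u} (sRoot facts_chevG2.{u} ia) : ℕ) =
          chevG2.neg (sRoot facts_chevG2.{u} ia) from rfl,
        chiU_neg facts_chevG2.{u} _ (sRoot facts_chevG2.{u} ia).2, hchi, inv_inv, mul_inv_cancel_right]
      show _ = phi (sigma δ (loS t))
      rw [show sigma δ (loS t) = loS ((δ : F) * t) from sl_ext (by rw [sigma_val, loS_val]; simp [loS]), phi_lo]
      rfl
  have := h S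
  show tau δ * phi S = _
  calc tau δ * phi S = (tau δ * phi S * (tau δ)⁻¹) * tau δ := by group
    _ = _ := by rw [show tau δ * phi S * (tau δ)⁻¹ = phi (sigma δ S) from this]

/-- The unimodular part of an invertible matrix. -/
noncomputable def slPart (M : GL2) : SL2 :=
  ⟨!![(M : Matrix (Fin 2) (Fin 2) F) 0 0, (M : Matrix (Fin 2) (Fin 2) F) 0 1 *
      ((Matrix.GeneralLinearGroup.det M)⁻¹ : Fˣ);
    (M : Matrix (Fin 2) (Fin 2) F) 1 0, (M : Matrix (Fin 2) (Fin 2) F) 1 1 *
      ((Matrix.GeneralLinearGroup.det M)⁻¹ : Fˣ)], by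
    have h := Matrix.GeneralLinearGroup.val_det_apply M
    rw [det_fin_two] at h
    have h2 := Units.mul_inv (Matrix.GeneralLinearGroup.det M)
    rw [det_fin_two]
    simp only [of_apply, cons_val', cons_val_zero, cons_val_one, empty_val', cons_val_fin_one]
    rw [h] at h2
    linear_combination h2⟩

theorem slPart_val (M : GL2) : ((slPart M : SL2) : Matrix (Fin 2) (Fin 2) F) =
    !![(M : Matrix (Fin 2) (Fin 2) F) 0 0, (M : Matrix (Fin 2) (Fin 2) F) 0 1 *
      ((Matrix.GeneralLinearGroup.det M)⁻¹ : Fˣ);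
    (M : Matrix (Fin 2) (Fin 2) F) 1 0, (M : Matrix (Fin 2) (Fin 2) F) 1 1 *
      ((Matrix.GeneralLinearGroup.det M)⁻¹ : Fˣ)] := rfl

theorem slPart_mul (M N : GL2) :
    slPart (M * N) = slPart M * sigma (Matrix.GeneralLinearGroup.det M) (slPart N) := by
  apply sl_ext
  rw [Matrix.SpecialLinearGroup.coe_mul, sigma_val, slPart_val, slPart_val, slPart_val, map_mul,
    Matrix.GeneralLinearGroup.coe_mul, _root_.mul_inv_rev, Units.val_mul]
  have h2 := Units.inv_mul (Matrix.GeneralLinearGroup.det M)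
  set m : Matrix (Fin 2) (Fin 2) F := (M : Matrix (Fin 2) (Fin 2) F)
  set n : Matrix (Fin 2) (Fin 2) F := (N : Matrix (Fin 2) (Fin 2) F)
  set δ : F := ((Matrix.GeneralLinearGroup.det M : Fˣ) : F)
  set D : F := (((Matrix.GeneralLinearGroup.det M)⁻¹ : Fˣ) : F)
  set E : F := (((Matrix.GeneralLinearGroup.det N)⁻¹ : Fˣ) : F)
  ext i j
  fin_cases i <;> fin_cases j <;> simp [Matrix.mul_apply, Fin.sum_univ_two]
  · linear_combination (-(m 0 1 * n 1 0)) * h2
  · ring
  · linear_combination (-(m 1 1 * n 1 0)) * h2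
  · ring

/-- The map of `GL₂` onto the Levi factor. -/
noncomputable def psi : GL2 →* GF :=
  MonoidHom.mk' (fun M => phi (slPart M) * tau (Matrix.GeneralLinearGroup.det M)) (fun M N => by
    show phi (slPart (M * N)) * tau (Matrix.GeneralLinearGroup.det (M * N)) =
      phi (slPart M) * tau (Matrix.GeneralLinearGroup.det M) *
        (phi (slPart N) * tau (Matrix.GeneralLinearGroup.det N))
    rw [slPart_mul, map_mul, map_mul, map_mul, mul_assoc (phi (slPart M)) (tau _),
      ← mul_assoc (tau (Matrix.GeneralLinearGroup.det M)) (phi _), tau_phi]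
    group)

theorem psi_apply (M : GL2) : psi M = phi (slPart M) * tau (Matrix.GeneralLinearGroup.det M) := rfl

theorem psi_diag (M : GL2) (a b : Fˣ)
    (hM : (M : Matrix (Fin 2) (Fin 2) F) = !![(a : F), 0; 0, (b : F)]) :
    psi M = torusHom (fun j => if j = ia then a else a * b) := by
  have hd : Matrix.GeneralLinearGroup.det M = a * b := by
    apply Units.ext
    rw [Matrix.GeneralLinearGroup.val_det_apply, hM]
    simp [det_fin_two]
  have hs : (slPart M : Matrix (Fin 2) (Fin 2) F) = !![(a : F), 0; 0, (a⁻¹ : Fˣ)] := by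
    simp only [slPart, hd, hM]
    ext i j
    fin_cases i <;> fin_cases j <;> simp
  rw [psi_apply, phi_diag _ a hs, hd]
  show _ * torusHom _ = _
  rw [← map_mul]
  congr 1
  rw [coH_simple facts_chevG2.{u} ia.2, Fin.eta]
  funext j
  have hab : ia ≠ ib := by decide +kernel
  rcases Chev.G2Odd.fin_cases_rank j with rfl | rfl
  · simp [hab]
  · simp [hab.symm]

theorem psi_det_one (M : GL2) (S : SL2)
    (hM : (M : Matrix (Fin 2) (Fin 2) F) = (S : Matrix (Fin 2) (Fin 2) F)) : psi M = phi S := by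
  have hd : Matrix.GeneralLinearGroup.det M = 1 := by
    apply Units.ext
    rw [Matrix.GeneralLinearGroup.val_det_apply, hM, Units.val_one]
    exact S.2
  rw [psi_apply, hd, map_one, mul_one]
  congr 1
  apply Subtype.ext
  simp only [slPart, hd, hM, inv_one, Units.val_one, mul_one]
  exact (eta_fin_two _).symm

theorem psi_mem {H : Subgroup GF}
    (hu : ∀ t : F, xG facts_chevG2.{u} (sRoot facts_chevG2.{u} ia : ℕ) t ∈ H)
    (hl : ∀ t : F, xG facts_chevG2.{u} (negF facts_chevG2.{u} (sRoot facts_chevG2.{u} ia) : ℕ) t ∈ H)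
    (ht : ∀ c, (torusHom c : GF) ∈ H) (M : GL2) : psi M ∈ H := by
  rw [psi_apply]
  exact H.mul_mem (phi_mem hu hl _) (ht _)

theorem psi_mem_group (M : GL2) : (psi M : GF) ∈ chevG2.group F :=
  psi_mem (fun t => xG_mem_group facts_chevG2.{u} _ t) (fun t => xG_mem_group facts_chevG2.{u} _ t)
    torus_mem_group M

/-- The unipotent radical. -/
noncomputable def radP (i : Fin chevG2.rank) : Subgroup GF :=
  Subgroup.closure (otherRoots facts_chevG2.{u} (i : ℕ))

theorem torus_norm_radP (i : Fin chevG2.rank) (c : Fin chevG2.rank → Fˣ) :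
    (torusHom c : GF) ∈ Subgroup.normalizer ((radP (F := F) i : Subgroup GF) : Set GF) := by
  have key : ∀ d : Fin chevG2.rank → Fˣ, ∀ x ∈ otherRoots facts_chevG2.{u} (i : ℕ) (F := F),
      (torusHom d : GF) * x * (torusHom d)⁻¹ ∈ radP i := by
    rintro d x ⟨s, t, h1, h2, h3, rfl⟩
    rw [torusHom_conj facts_chevG2.{u} d h1, mul_inv_cancel_right]
    exact Subgroup.subset_closure ⟨s, _, h1, h2, h3, rfl⟩
  refine mem_normalizer_closure (key c) fun x hx => ?_
  have := key c⁻¹ x hx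
  rwa [map_inv, inv_inv] at this

theorem mem_norm_neg (i : Fin chevG2.rank) {g : GF}
    (h : (nWord facts_chevG2.{u} w0 : GF)⁻¹ * g * nWord facts_chevG2.{u} w0 ∈
      Subgroup.normalizer ((radP (F := F) i : Subgroup GF) : Set GF)) :
    g ∈ Subgroup.normalizer (negOther (F := F) i : Set GF) := by
  set n : GF := nWord facts_chevG2.{u} w0 with hn
  set z : GF := n⁻¹ * g * n with hz
  refine Subgroup.mem_normalizer_iff.2 fun w => ?_
  have key : g * w * g⁻¹ = n * (z * (n⁻¹ * w * n) * z⁻¹) * n⁻¹ := by rw [hz]; group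
  have hneg : ∀ y, (y ∈ negOther (F := F) i ↔ n⁻¹ * y * n ∈ radP i) := by
    intro y
    constructor
    · rintro ⟨y', hy', rfl⟩
      show n⁻¹ * (n * y' * n⁻¹) * n ∈ radP i
      rw [show n⁻¹ * (n * y' * n⁻¹) * n = y' by group]; exact hy'
    · intro hy
      exact ⟨n⁻¹ * y * n, hy, by show n * (n⁻¹ * y * n) * n⁻¹ = y; group⟩
  rw [hneg, hneg, key, show n⁻¹ * (n * (z * (n⁻¹ * w * n) * z⁻¹) * n⁻¹) * n =
    z * (n⁻¹ * w * n) * z⁻¹ by group]
  exact Subgroup.mem_normalizer_iff.1 h _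

theorem simple_norm_neg (i : Fin chevG2.rank) (t : F) :
    (xG facts_chevG2.{u} (sRoot facts_chevG2.{u} i : ℕ) t : GF) ∈
        Subgroup.normalizer (negOther (F := F) i : Set GF) ∧
    (xG facts_chevG2.{u} (negF facts_chevG2.{u} (sRoot facts_chevG2.{u} i) : ℕ) t : GF) ∈
        Subgroup.normalizer (negOther (F := F) i : Set GF) := by
  obtain ⟨k, hk0, hk⟩ := n0_root (F := F) (sRoot facts_chevG2.{u} i)
  obtain ⟨l, hl0, hl⟩ := n0_root (F := F) (negF facts_chevG2.{u} (sRoot facts_chevG2.{u} i))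
  rw [negF_negF] at hl
  constructor
  · refine mem_norm_neg i ?_
    rw [show t = l * (l⁻¹ * t) by rw [mul_inv_cancel_left₀ hl0], mul_assoc, ← hl, inv_mul_cancel_left]
    exact (simple_mem_normalizer facts_chevG2.{u} i.2 _).2
  · refine mem_norm_neg i ?_
    rw [show t = k * (k⁻¹ * t) by rw [mul_inv_cancel_left₀ hk0], mul_assoc, ← hk, inv_mul_cancel_left]
    exact (simple_mem_normalizer facts_chevG2.{u} i.2 _).1

theorem torus_norm_neg (i : Fin chevG2.rank) (c : Fin chevG2.rank → Fˣ) :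
    (torusHom c : GF) ∈ Subgroup.normalizer (negOther (F := F) i : Set GF) := by
  refine mem_norm_neg i ?_
  obtain ⟨e, he⟩ := torus_nWord facts_chevG2.{u} w0 c (F := F)
  rw [mul_assoc, he, inv_mul_cancel_left]
  exact torus_norm_radP i e

theorem psi_norm_radP (M : GL2) : (psi M : GF) ∈ Subgroup.normalizer ((radP (F := F) ia : Subgroup GF) : Set GF) :=
  psi_mem (fun t => (simple_mem_normalizer facts_chevG2.{u} ia.2 t).1)
    (fun t => (simple_mem_normalizer facts_chevG2.{u} ia.2 t).2) (torus_norm_radP ia) M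

theorem psi_norm_neg (M : GL2) :
    (psi M : GF) ∈ Subgroup.normalizer (negOther (F := F) ia : Set GF) :=
  psi_mem (fun t => (simple_norm_neg ia t).1) (fun t => (simple_norm_neg ia t).2)
    (torus_norm_neg ia) M

/-! ### The root elements fixed by the Levi factor -/

theorem commute_chk : ∀ r : Fin chevG2.nroots, ((r : ℕ) = 0 ∨ (r : ℕ) = 11) →
    ∀ s : Fin chevG2.nroots, ((s : ℕ) = 4 ∨ (s : ℕ) = 7) →
      (r : ℕ) ≠ chevG2.neg s ∧ chevG2.commTerms s r = [] := by decide +kernel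

theorem phi_commute (r : Fin chevG2.nroots) (hr : (r : ℕ) = 0 ∨ (r : ℕ) = 11) (f : F) (S : SL2) :
    phi S * xG facts_chevG2.{u} (r : ℕ) f = xG facts_chevG2.{u} (r : ℕ) f * phi S := by
  have h7 : (sRoot facts_chevG2.{u} ia : ℕ) = 7 := simple_ia.1
  have h4 : (negF facts_chevG2.{u} (sRoot facts_chevG2.{u} ia) : ℕ) = 4 := by
    show chevG2.neg (chevG2.simple ia) = 4
    rw [simple_ia.1]; decide +kernel
  have h := phi_mem (H := Subgroup.centralizer {xG facts_chevG2.{u} (r : ℕ) f}) (fun t => ?_)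
    (fun t => ?_) S
  · exact (Subgroup.mem_centralizer_singleton_iff.1 h)
  all_goals refine Subgroup.mem_centralizer_singleton_iff.2 ?_
  · exact ((xG_commute_of facts_chevG2.{u} (sRoot facts_chevG2.{u} ia).2 r.2
      (Or.inr (commute_chk r hr _ (Or.inr h7))) t f).symm).eq
  · exact ((xG_commute_of facts_chevG2.{u} (negF facts_chevG2.{u} (sRoot facts_chevG2.{u} ia)).2 r.2
      (Or.inr (commute_chk r hr _ (Or.inl h4))) t f).symm).eq

theorem psi_fixed_root (M : GL2) (r : Fin chevG2.nroots) (hr : (r : ℕ) = 0 ∨ (r : ℕ) = 11) (f : F) :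
    psi M * xG facts_chevG2.{u} (r : ℕ) f = xG facts_chevG2.{u} (r : ℕ)
      ((((Matrix.GeneralLinearGroup.det M) ^ chevG2.cartan ib r : Fˣ) : F) * f) * psi M := by
  rw [psi_apply, mul_assoc]
  show phi _ * (torusHom _ * _) = _
  rw [torusHom_conj facts_chevG2.{u} _ r.2, show (ib : Fin chevG2.rank) = ⟨ib, ib.2⟩ from rfl,
    chiU_mulSingle ib.2, ← mul_assoc, phi_commute r hr, mul_assoc]
  rfl

end Cfsg.Agent.G2Square
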