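import Cfsg.Agent.G2Square.Table
import Mathlib.Algebra.CharP.Basic
import Mathlib.FieldTheory.Finite.Basic

/-!
The fields with three, four and five elements.
-/

set_option autoImplicit false
set_option maxRecDepth 100000

namespace Cfsg.Agent.G2Square

open Cfsg.Lie Cfsg.Agent.Chev
open Cfsg.Agent.Chev.G2Invol (ia ib words half_g2 nroots_eq)
open scoped MatrixGroups

universe u

variable {F : Type u} [Field F] [Fintype F]

local notation "GF" => GL chevG2.Idx F

/-- What is to be proved for the small fields. -/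
def SmallCover (F : Type u) [Field F] (n : ℕ) : Prop :=
  ∃ x ∈ chevG2.group F, x ^ n = 1 ∧ ∀ g ∈ chevG2.group F, g ≠ 1 →
    ∃ a ∈ chevG2.group F, ∃ b ∈ chevG2.group F, g = (a * x * a⁻¹) * (b * x * b⁻¹)

theorem smallCover_of {X : GL (Fin 2) F} {k : ℕ} {l : Fˣ} (hk : X ^ k = scal l)
    (hX : Admissible X)
    (h : ∀ g ∈ chevG2.group F, g ≠ 1 → ∃ M, Good X M ∧ ∃ u1 ∈ negOther (F := F) ia,
      ∃ v1 ∈ radP (F := F) ia, Cj g (u1 * psi M * v1)) :
    SmallCover F (k * (Fintype.card F - 1)) := by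
  refine ⟨psi X, psi_mem_group X, psi_order hk, fun g hg hne => ?_⟩
  obtain ⟨M, hM, u1, hu, v1, hv, hcj⟩ := h g hg hne
  exact good_product hX hM hu hv hcj

/-- The fields in which every middle part over the trivial torus element is good. -/
theorem smallCover_prime {q : ℕ} {K : Arith q} (m : Model K F) (hinj : Function.Injective m.f)
    {A A' : Q q} {k : ℕ} {d L L' : Fin q} (hadm : K.admChk A A' k d L L' = true)
    {W : List (Q q × Q q × Bool × Q q × Bool)}
    (hW : ∀ c a : Fin q, ∃ w ∈ W, w.1 = (K.l, K.l, c, a) ∧ K.chk A A' w = true) :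
    SmallCover F (k * (Fintype.card F - 1)) := by
  obtain ⟨X, hX, hX', hXa, l, hl⟩ := m.admissible hinj hadm
  refine smallCover_of hl hXa fun g hg hne => ?_
  obtain ⟨u, hu, v, hv, hcj⟩ := gauss hg hne 1
  obtain ⟨u1, hu1, c0, rfl⟩ := exists_split_neg ia hu
  obtain ⟨a0, M, v1, hv1, hM, -, e⟩ := middle_of c0 hv u1 1
  rw [e] at hcj
  obtain ⟨c, rfl⟩ := m.surj c0
  obtain ⟨a, rfl⟩ := m.surj a0
  obtain ⟨w, -, hw1, hw⟩ := hW c a
  refine ⟨M, m.good hX hX' hw ?_, u1, hu1, v1, hv1, hcj⟩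
  rw [hM, hw1]
  simp [m.map_l]

theorem smallCover_three (h : Fintype.card F = 3) : SmallCover F (4 * (Fintype.card F - 1)) := by
  have : Fact (Nat.Prime 3) := ⟨Nat.prime_three⟩
  have : CharP F 3 := charP_of_card_eq_prime (by rw [← h])
  have hb := (ZMod.castHom_bijective (n := 3) F (by rw [← h]))
  let m : Model K3 F :=
    { f := fun a => ZMod.castHom (dvd_refl 3) F a
      surj := hb.2
      map_o := map_zero (ZMod.castHom (dvd_refl 3) F)
      map_l := map_one (ZMod.castHom (dvd_refl 3) F)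
      map_add := fun a b => map_add (ZMod.castHom (dvd_refl 3) F) a b
      map_mul := fun a b => map_mul (ZMod.castHom (dvd_refl 3) F) a b
      map_neg := fun a => map_neg (ZMod.castHom (dvd_refl 3) F) a }
  exact smallCover_prime m hb.1 (A := (0, 1, 1, 1)) (A' := (0, 2, 2, 2)) (k := 4) (d := 2) (L := 2)
    (L' := 2) (by decide +kernel) chk3

theorem smallCover_five (h : Fintype.card F = 5) : SmallCover F (6 * (Fintype.card F - 1)) := by
  have : Fact (Nat.Prime 5) := ⟨Nat.prime_five⟩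
  have : CharP F 5 := charP_of_card_eq_prime (by rw [← h])
  have hb := (ZMod.castHom_bijective (n := 5) F (by rw [← h]))
  let m : Model K5 F :=
    { f := fun a => ZMod.castHom (dvd_refl 5) F a
      surj := hb.2
      map_o := map_zero (ZMod.castHom (dvd_refl 5) F)
      map_l := map_one (ZMod.castHom (dvd_refl 5) F)
      map_add := fun a b => map_add (ZMod.castHom (dvd_refl 5) F) a b
      map_mul := fun a b => map_mul (ZMod.castHom (dvd_refl 5) F) a b
      map_neg := fun a => map_neg (ZMod.castHom (dvd_refl 5) F) a }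
  exact smallCover_prime m hb.1 (A := (0, 1, 1, 2)) (A' := (0, 4, 4, 3)) (k := 6) (d := 4) (L := 4)
    (L' := 4) (by decide +kernel) chk5

/-! ### Four elements -/

section Four

variable {w : F} (hw : w * w + w + 1 = 0) (hc : (2 : F) = 0)
include hw hc

omit [Fintype F] in
theorem w_ne : w ≠ 0 ∧ w ≠ 1 ∧ w + 1 ≠ 0 := by
  refine ⟨fun e => ?_, fun e => ?_, fun e => ?_⟩
  · rw [e] at hw; simp at hw
  · subst e; exact one_ne_zero (by linear_combination hw - hc)
  · exact one_ne_zero (by linear_combination hw - w * e)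

/-- The map of the tables into the field. -/
def emb4 : Fin 4 → F := fun a => [0, 1, w, w + 1].getD a.val 0

omit [Fintype F] in
theorem emb4_injective : Function.Injective (emb4 (w := w)) := by
  obtain ⟨h0, h1, h2⟩ := w_ne hw hc
  intro a b e
  fin_cases a <;> fin_cases b <;> simp [emb4] at e ⊢ <;> first
    | exact absurd e h0
    | exact absurd e.symm h0
    | exact absurd e h1
    | exact absurd e.symm h1
    | exact absurd e h2
    | exact absurd e.symm h2
    | exact absurd (by linear_combination e) h0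
    | exact absurd (by linear_combination -e) h0
    | exact absurd (by linear_combination e) one_ne_zero
    | exact absurd (by linear_combination -e) one_ne_zero

theorem model4 (h : Fintype.card F = 4) : ∃ m : Model K4 F, m.f = emb4 (w := w) := by
  refine ⟨⟨emb4 (w := w), ?_, rfl, rfl, ?_, ?_, ?_⟩, rfl⟩
  · exact ((Fintype.bijective_iff_injective_and_card _).2 ⟨emb4_injective hw hc, by simp [h]⟩).2
  · intro a b
    fin_cases a <;> fin_cases b <;> simp [emb4, K4] <;> grind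
  · intro a b
    fin_cases a <;> fin_cases b <;> simp [emb4, K4] <;> grind
  · intro a
    fin_cases a <;> simp [emb4, K4] <;> grind

end Four

/-- A root element of `-a_i` moved past one of `a_i`. -/
theorem root_identity (i : Fin chevG2.rank) (f r : F) (k : Fˣ) (hk : (k : F) = 1 - f * r) :
    (xG facts_chevG2.{u} (sRoot facts_chevG2.{u} i : ℕ) f : GF) *
        xG facts_chevG2.{u} (negF facts_chevG2.{u} (sRoot facts_chevG2.{u} i) : ℕ) (-r) =
      xG facts_chevG2.{u} (negF facts_chevG2.{u} (sRoot facts_chevG2.{u} i) : ℕ) (-r / k) *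
        torusHom (coH (chevG2.simple i) k) * xG facts_chevG2.{u} (sRoot facts_chevG2.{u} i : ℕ) (f / k) := by
  obtain ⟨φ, hu, hl⟩ := hasSL2 facts_chevG2.{u} (sRoot facts_chevG2.{u} i).2 (F := F)
  have e1 : ∀ s, φ (upS s) = xG facts_chevG2.{u} (sRoot facts_chevG2.{u} i : ℕ) s :=
    fun s => hu _ _ rfl
  have e2 : ∀ s, φ (loS s) =
      xG facts_chevG2.{u} (negF facts_chevG2.{u} (sRoot facts_chevG2.{u} i) : ℕ) s :=
    fun s => hl _ _ rfl
  have hk0 : (k : F) ≠ 0 := k.ne_zero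
  have key : upS f * loS (-r) = loS (-r / k) *
      ((upS (k : F) * loS (-(k : F)⁻¹) * upS (k : F)) * (upS (-1) * loS 1 * upS (-1))) *
        upS (f / k) := by
    apply sl_ext
    simp only [Matrix.SpecialLinearGroup.coe_mul, upS_val, loS_val]
    ext a b
    fin_cases a <;> fin_cases b <;> simp [Matrix.mul_apply, Fin.sum_univ_two]
    all_goals field_simp
    all_goals grind
  have h := congrArg φ key
  simp only [map_mul, e1, e2] at h
  rw [h, ← hG_eq_torus facts_chevG2.{u} ((facts_chevG2.{u}).simple_lt i i.2)]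
  simp only [hG, nG, inv_neg, inv_one, neg_neg]
  rfl

theorem six_rad : ((sRoot facts_chevG2.{0} ib : Fin chevG2.nroots) : ℕ) ≠ chevG2.simple ia ∧
    half chevG2 ≤ (sRoot facts_chevG2.{0} ib : ℕ) := by decide +kernel

theorem four_chars : chevG2.cartan ia (chevG2.simple ib) = -3 ∧
    chevG2.cartan ib (chevG2.simple ib) = 2 ∧ chevG2.cartan ia (chevG2.simple ia) = 2 ∧
    chevG2.cartan ib (chevG2.simple ia) = -1 := by decide +kernel

omit [Fintype F] in
theorem chiU_pair (s t : Fˣ) (r : ℕ) :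
    chiU (fun j : Fin chevG2.rank => if j = ia then s else t) r =
      s ^ chevG2.cartan ia r * t ^ chevG2.cartan ib r := by
  have hu : (Finset.univ : Finset (Fin chevG2.rank)) = {ia, ib} := by decide +kernel
  have hab : ia ≠ ib := by decide +kernel
  rw [chiU, hu, Finset.prod_pair hab, if_pos rfl, if_neg hab.symm]

omit [Fintype F] in
theorem rad_ib_ia (t : F) :
    (xG facts_chevG2.{u} (sRoot facts_chevG2.{u} ib : ℕ) t : GF) ∈ radP ia :=
  Subgroup.subset_closure ⟨_, t, (sRoot facts_chevG2.{u} ib).2, six_rad.2, six_rad.1, rfl⟩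

omit [Fintype F] in
theorem neg_ib_ia (t : F) :
    (xG facts_chevG2.{u} (negF facts_chevG2.{u} (sRoot facts_chevG2.{u} ib) : ℕ) t : GF) ∈
      negOther ia := by
  obtain ⟨k, hk0, hk⟩ := n0_root (F := F) (sRoot facts_chevG2.{u} ib)
  refine ⟨_, rad_ib_ia (k⁻¹ * t), ?_⟩
  show nWord facts_chevG2.{u} w0 * _ * (nWord facts_chevG2.{u} w0)⁻¹ = _
  rw [hk, ← mul_assoc, mul_inv_cancel₀ hk0, one_mul, mul_inv_cancel_right]

theorem exists_omega (h : Fintype.card F = 4) :
    (2 : F) = 0 ∧ ∃ w : Fˣ, (w : F) * w + w + 1 = 0 := by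
  classical
  obtain ⟨p, hp⟩ := CharP.exists F
  obtain ⟨n, hpp, hn⟩ := FiniteField.card F p
  rw [h] at hn
  obtain rfl : p = 2 := by
    have h2 : p ∣ 2 ^ 2 := by
      rw [show (2 : ℕ) ^ 2 = 4 by norm_num, hn]; exact dvd_pow_self p n.ne_zero
    exact (Nat.prime_dvd_prime_iff_eq hpp Nat.prime_two).1 (hpp.dvd_of_dvd_pow h2)
  have := hp
  refine ⟨CharP.cast_eq_zero F 2, ?_⟩
  have hu : Fintype.card Fˣ = 3 := by rw [Fintype.card_units, h]
  obtain ⟨w, hw⟩ : ∃ w : Fˣ, w ≠ 1 := Fintype.exists_ne_of_one_lt_card (by omega) 1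
  refine ⟨w, ?_⟩
  have h3 : (w : F) ^ 3 = 1 := by
    have := congrArg (fun a : Fˣ => (a : F)) (pow_card_eq_one (x := w))
    rw [hu] at this
    simpa using this
  have hne : (w : F) - 1 ≠ 0 := sub_ne_zero.2 fun e => hw (Units.ext e)
  exact mul_left_cancel₀ hne (by linear_combination h3)

theorem smallCover_four (h : Fintype.card F = 4) : SmallCover F (5 * (Fintype.card F - 1)) := by
  classical
  obtain ⟨hc, w, hw⟩ := exists_omega h
  obtain ⟨hw0, hw1, hw2⟩ := w_ne hw hc
  obtain ⟨m, hm⟩ := model4 hw hc h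
  have f2 : m.f 2 = (w : F) := by rw [hm]; rfl
  have f3 : m.f 3 = (w : F) + 1 := by rw [hm]; rfl
  obtain ⟨X, hX, hX', hXa, l, hl⟩ := m.admissible (by rw [hm]; exact emb4_injective hw hc)
    (A := (0, 2, 1, 1)) (A' := (0, 1, 3, 3)) (k := 5) (d := 3) (L := 2) (L' := 3) (by decide +kernel)
  have hwne : w ≠ 1 := fun e => hw1 (by rw [e]; rfl)
  have hw3 : w ^ 3 = 1 := Units.ext (by push_cast; linear_combination ((w : F) - 1) * hw)
  have hwwne : w * w ≠ 1 := fun e => hwne (by
    calc w = w ^ 3 * (w * w)⁻¹ := by rw [pow_succ, pow_two]; group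
      _ = 1 := by rw [hw3, e, one_mul, inv_one])
  refine smallCover_of hl hXa ?_
  set h0 : Fin chevG2.rank → Fˣ := fun j => if j = ia then w else w * w with hh0
  set h1 : Fin chevG2.rank → Fˣ := fun j => if j = ia then w else 1 with hh1
  have hab : ib ≠ ia := by decide +kernel
  have d0 : h0 ib / h0 ia = w := by simp [hh0, hab]
  have d1 : ((h1 ib / h1 ia : Fˣ) : F) = (w : F) + 1 := by
    simp only [hh1, if_neg hab, if_true, one_div, Units.val_inv_eq_inv_val]
    refine inv_eq_of_mul_eq_one_right ?_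
    linear_combination hw - hc
  have good0 : ∀ (c a : F) (M : GL (Fin 2) F), (c = 0 ∧ a = 0 ∨ c ≠ 0 ∧ a ≠ 0) →
      (M : Matrix (Fin 2) (Fin 2) F) = !![1, 0; c, 1] *
        !![(h0 ia : F), 0; 0, ((h0 ib / h0 ia : Fˣ) : F)] * !![1, a; 0, 1] → Good X M := by
    intro c a M hca hM
    obtain ⟨c', rfl⟩ := m.surj c
    obtain ⟨a', rfl⟩ := m.surj a
    have hz : ∀ b : Fin 4, m.f b = 0 ↔ b = 0 := fun b => by
      rw [hm]
      exact ⟨fun e => emb4_injective hw hc (e.trans rfl), fun e => by rw [e]; rfl⟩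
    simp only [ne_eq, hz] at hca
    obtain ⟨W, -, hW1, hW⟩ := chk4.1 c' a' hca
    refine m.good hX hX' hW ?_
    rw [hM, hW1, d0, f2]
    simp [hh0]
  have good1 : ∀ (a : F) (M : GL (Fin 2) F),
      (M : Matrix (Fin 2) (Fin 2) F) = !![1, 0; 0, 1] *
        !![(h1 ia : F), 0; 0, ((h1 ib / h1 ia : Fˣ) : F)] * !![1, a; 0, 1] → Good X M := by
    intro a M hM
    obtain ⟨a', rfl⟩ := m.surj a
    obtain ⟨W, -, hW1, hW⟩ := chk4.2 a'
    refine m.good hX hX' hW ?_
    rw [hM, hW1, d1, f2, f3, show m.f (0 : Fin 4) = 0 from m.map_o]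
    simp [hh1]
  set x : ℕ → F → GF := fun r t => xG facts_chevG2.{u} r t
  set pb : Fin chevG2.nroots := sRoot facts_chevG2.{u} ib with hpb
  set nb : Fin chevG2.nroots := negF facts_chevG2.{u} pb with hnb
  set pa : Fin chevG2.nroots := sRoot facts_chevG2.{u} ia with hpa
  set na : Fin chevG2.nroots := negF facts_chevG2.{u} pa with hna
  have cb : chiU h0 (pb : ℕ) = w := by
    show chiU h0 (chevG2.simple ib) = w
    rw [hh0, chiU_pair, four_chars.1, four_chars.2.1, show (-3 : ℤ) = -((3 : ℕ) : ℤ) from rfl,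
      show (2 : ℤ) = ((2 : ℕ) : ℤ) from rfl, zpow_neg, zpow_natCast, zpow_natCast, hw3, inv_one,
      one_mul]
    calc (w * w) ^ 2 = w ^ 3 * w := by rw [pow_succ w 2, pow_two, pow_two]; group
      _ = w := by rw [hw3, one_mul]
  have ca : chiU h0 (pa : ℕ) = 1 := by
    show chiU h0 (chevG2.simple ia) = 1
    rw [hh0, chiU_pair, four_chars.2.2.1, four_chars.2.2.2, _root_.zpow_neg_one,
      show (2 : ℤ) = ((2 : ℕ) : ℤ) from rfl, zpow_natCast, pow_two, mul_inv_cancel]
  have hgp : ∀ (r : Fin chevG2.nroots) (t : F), (xG facts_chevG2.{u} (r : ℕ) t : GF) ∈ chevG2.group F :=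
    fun r t => xG_mem_group facts_chevG2.{u} _ t
  -- the trivial middle part, for either torus element
  have tri : ∀ (c : Fin chevG2.rank → Fˣ) {u v : GF}, u ∈ negOther (F := F) ia →
      v ∈ chevG2.posUnipotent F → ∃ (a : F) (M : GL (Fin 2) F), ∃ v1 ∈ radP (F := F) ia,
        (M : Matrix (Fin 2) (Fin 2) F) = !![1, 0; 0, 1] *
          !![(c ia : F), 0; 0, ((c ib / c ia : Fˣ) : F)] * !![1, a; 0, 1] ∧
        (a = 0 ↔ v ∈ radP (F := F) ia) ∧ u * torusHom c * v = u * psi M * v1 := by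
    intro c u v hu hv
    obtain ⟨a, M, v1, hv1, hM, ha, e⟩ := middle_of 0 hv u c
    exact ⟨a, M, v1, hv1, hM, ha, by rw [← e, xG_zero, mul_one]⟩
  -- changing the torus element
  have step1 : ∀ {g u v : GF}, u ∈ negOther (F := F) ia → v ∈ chevG2.posUnipotent F →
      v ∉ radP (F := F) ib → Cj g (u * torusHom h0 * v) →
      ∃ M, Good X M ∧ ∃ u1 ∈ negOther (F := F) ia, ∃ v1 ∈ radP (F := F) ia,
        Cj g (u1 * psi M * v1) := by
    intro g u v hu hv hvb hcj
    obtain ⟨y, hy, f, rfl⟩ := exists_split_simple facts_chevG2.{u} ib.2 hv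
    have hf : f ≠ 0 := fun e => hvb (by rw [e, xG_zero, mul_one]; exact hy)
    set r : F := (1 - (w : F)) / f with hr
    have hk : (w : F) = 1 - f * r := by rw [hr]; field_simp; ring
    have hid := root_identity ib f r w hk
    set N1 : GF := xG facts_chevG2.{u} (nb : ℕ) (-r / (w : F)) with hN1
    set N0 : GF := xG facts_chevG2.{u} (nb : ℕ) r with hN0
    set T0 : GF := torusHom h0 with hT0
    set Tk : GF := torusHom (coH (chevG2.simple ib) w) with hTk
    have hy1 : N1⁻¹ * y * N1 ∈ radP (F := F) ib :=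
      (Subgroup.mem_normalizer_iff''.1 (simple_mem_normalizer facts_chevG2.{u} ib.2 _).2 y).1 hy
    have hN2 : T0 * N1 = xG facts_chevG2.{u} (nb : ℕ) ((chiU h0 nb : F) * (-r / (w : F))) * T0 :=
      torusHom_conj facts_chevG2.{u} h0 nb.2 _
    set N2 : GF := xG facts_chevG2.{u} (nb : ℕ) ((chiU h0 nb : F) * (-r / (w : F))) with hN2d
    have hu' : N0 * u * N2 ∈ negOther (F := F) ia :=
      Subgroup.mul_mem _ (Subgroup.mul_mem _ (neg_ib_ia r) hu) (neg_ib_ia _)
    have hT : T0 * Tk = torusHom h1 := by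
      rw [hT0, hTk, ← map_mul, coH_simple facts_chevG2.{u} ib.2, Fin.eta]
      congr 1
      funext j
      rcases Chev.G2Odd.fin_cases_rank j with rfl | rfl
      · simp [hh0, hh1, hab.symm]
      · simp only [hh0, hh1, Pi.mul_apply, if_neg hab, Pi.mulSingle_eq_same]
        rw [← pow_two, ← pow_succ, hw3]
    set F1 : GF := xG facts_chevG2.{u} (pb : ℕ) (f / (w : F))
    have hv' : Tk⁻¹ * (N1⁻¹ * y * N1) * Tk * F1 ∈ chevG2.posUnipotent F :=
      Subgroup.mul_mem _ (torus_conj_pos' _ (otherRoots_le facts_chevG2.{u} (ib : ℕ) hy1))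
        (xG_pos ((facts_chevG2.{u}).simple_pos ib ib.2) _)
    obtain ⟨a, M, v1, hv1, hM, -, e⟩ := tri h1 hu' hv'
    refine ⟨M, good1 a M hM, N0 * u * N2, hu', v1, hv1, hcj.trans ⟨N0, hgp nb r, ?_⟩⟩
    rw [← e]
    calc N0 * (u * T0 * (y * xG facts_chevG2.{u} (chevG2.simple ib) f)) * N0⁻¹
        = N0 * u * T0 * y * (xG facts_chevG2.{u} (pb : ℕ) f * xG facts_chevG2.{u} (nb : ℕ) (-r)) := by
          rw [hN0, xG_inv]; group; rfl
      _ = N0 * u * T0 * y * (N1 * Tk * F1) := by rw [hid]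
      _ = N0 * u * (T0 * N1) * Tk * (Tk⁻¹ * (N1⁻¹ * y * N1) * Tk * F1) := by group
      _ = _ := by rw [hN2, ← hT]; group
  -- the bad middle part
  have stateA : ∀ {g u v : GF}, u ∈ negOther (F := F) ia → v ∈ chevG2.posUnipotent F →
      Cj g (u * torusHom h0 * v) →
      ∃ M, Good X M ∧ ∃ u1 ∈ negOther (F := F) ia, ∃ v1 ∈ radP (F := F) ia,
        Cj g (u1 * psi M * v1) := by
    intro g u v hu hv hcj
    set T0 : GF := torusHom h0 with hT0
    by_cases hvb : v ∈ radP (F := F) ib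
    swap
    · exact step1 hu hv hvb hcj
    obtain ⟨W, hW, e, rfl⟩ := exists_split_neg ib (negOther_le ia hu)
    set χ : F := (chiU h0 nb : F) with hχ
    have hχw : χ ≠ 1 := by
      rw [hχ]
      intro e'
      have h2 : chiU h0 (nb : ℕ) = w⁻¹ := by
        show chiU h0 (chevG2.neg pb) = _
        rw [chiU_neg facts_chevG2.{u} h0 pb.2, cb]
      exact hwne (inv_eq_one.1 (h2.symm.trans (Units.ext e')))
    set r : F := e / (χ - 1) with hr
    set N0 : GF := xG facts_chevG2.{u} (nb : ℕ) r with hN0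
    have hN : N0 ∈ Subgroup.normalizer (negOther (F := F) ib : Set GF) := (simple_norm_neg ib r).2
    have hW' : N0 * W * N0⁻¹ ∈ negOther (F := F) ib := (Subgroup.mem_normalizer_iff.1 hN W).1 hW
    set W' : GF := N0 * W * N0⁻¹ with hWd
    set v' : GF := N0 * v * N0⁻¹ with hv'd
    have hv'b : v' ∈ radP (F := F) ib :=
      (Subgroup.mem_normalizer_iff.1 (simple_mem_normalizer facts_chevG2.{u} ib.2 r).2 v).1 hvb
    have key : N0 * (W * xG facts_chevG2.{u} (nb : ℕ) e * T0 * v) * N0⁻¹ = W' * T0 * v' := by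
      have h2 : T0 * N0⁻¹ = xG facts_chevG2.{u} (nb : ℕ) (χ * -r) * T0 := by
        rw [hN0, xG_inv]; exact torusHom_conj facts_chevG2.{u} h0 nb.2 _
      have h3 : N0 * xG facts_chevG2.{u} (nb : ℕ) e * xG facts_chevG2.{u} (nb : ℕ) (χ * -r) = 1 := by
        rw [hN0, xG_mul, xG_mul, xG_eq_one_iff facts_chevG2.{u} nb.2, hr]
        have : χ - 1 ≠ 0 := sub_ne_zero.2 hχw
        field_simp
        ring
      calc N0 * (W * xG facts_chevG2.{u} (nb : ℕ) e * T0 * v) * N0⁻¹
          = W' * (N0 * xG facts_chevG2.{u} (nb : ℕ) e) * (T0 * N0⁻¹) * v' := by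
            rw [hWd, hv'd]; group
        _ = W' * (N0 * xG facts_chevG2.{u} (nb : ℕ) e * xG facts_chevG2.{u} (nb : ℕ) (χ * -r)) *
              T0 * v' := by rw [h2]; group
        _ = _ := by rw [h3, mul_one]
    have hWa : W' ∈ negOther (F := F) ia := by
      have : W ∈ negOther (F := F) ia := by
        have := Subgroup.mul_mem _ hu (Subgroup.inv_mem _ (neg_ib_ia e))
        rwa [mul_inv_cancel_right] at this
      exact Subgroup.mul_mem _ (Subgroup.mul_mem _ (neg_ib_ia r) this)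
        (Subgroup.inv_mem _ (neg_ib_ia r))
    have hcj' : Cj g (W' * T0 * v') := hcj.trans ⟨N0, hgp nb r, key⟩
    have hv'U : v' ∈ chevG2.posUnipotent F := otherRoots_le facts_chevG2.{u} (ib : ℕ) hv'b
    by_cases hva : v' ∈ radP (F := F) ia
    · obtain ⟨a, M, v1, hv1, hM, ha, e'⟩ := tri h0 hWa hv'U
      rw [e'] at hcj'
      exact ⟨M, good0 0 a M (Or.inl ⟨rfl, ha.2 hva⟩) hM, W', hWa, v1, hv1, hcj'⟩
    set B : GF := xG facts_chevG2.{u} (pb : ℕ) 1 with hB
    set U' : GF := B * W' * B⁻¹ with hU'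
    have hU'b : U' ∈ negOther (F := F) ib := negOther_normalised ib 1 hW'
    set B' : GF := T0⁻¹ * B * T0 with hB'
    have hBx : B' = xG facts_chevG2.{u} (pb : ℕ) (((w⁻¹ : Fˣ) : F)) := by
      rw [hB', mul_assoc, inv_mul_eq_iff_eq_mul, hT0, torusHom_conj facts_chevG2.{u} h0 pb.2, cb,
        Units.mul_inv]
    set v'' : GF := B' * v' * B⁻¹ with hv''d
    have hv''U : v'' ∈ chevG2.posUnipotent F := by
      rw [hv''d, hBx]
      exact Subgroup.mul_mem _ (Subgroup.mul_mem _
        (xG_pos ((facts_chevG2.{u}).simple_pos ib ib.2) _) hv'U)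
        (Subgroup.inv_mem _ (xG_pos ((facts_chevG2.{u}).simple_pos ib ib.2) _))
    have hv''a : v'' ∉ radP (F := F) ia := by
      intro hh
      apply hva
      have hB1 : B ∈ radP (F := F) ia := rad_ib_ia 1
      have hB2 : B' ∈ radP (F := F) ia := by rw [hBx]; exact rad_ib_ia _
      have : v' = B'⁻¹ * v'' * B := by rw [hv''d]; group
      rw [this]
      exact Subgroup.mul_mem _ (Subgroup.mul_mem _ (Subgroup.inv_mem _ hB2) hh) hB1
    have hv''b : v'' ∉ radP (F := F) ib := by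
      intro hh
      have hn : B' * v' * B'⁻¹ ∈ radP (F := F) ib := by
        rw [hBx]
        exact (Subgroup.mem_normalizer_iff.1 (simple_mem_normalizer facts_chevG2.{u} ib.2 _).1 _).1 hv'b
      have h2 := Subgroup.mul_mem _ (Subgroup.inv_mem _ hn) hh
      rw [show (B' * v' * B'⁻¹)⁻¹ * v'' = B' * B⁻¹ by rw [hv''d]; group, hBx, hB, xG_inv, xG_mul] at h2
      have h3 := eq_one_of_simple_mem_radP ib h2
      refine hwne (inv_eq_one.1 (Units.ext ?_))
      rw [Units.val_one]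
      linear_combination h3
    have hcj'' : Cj g (U' * T0 * v'') := hcj'.trans ⟨B, hgp pb 1, by
      rw [hU', hv''d, hB']; group⟩
    obtain ⟨u1, hu1, c0, hU'e⟩ := exists_split_neg ia (negOther_le ib hU'b)
    by_cases hc0 : c0 = 0
    · rw [hc0, xG_zero, mul_one] at hU'e
      rw [hU'e] at hcj''
      exact step1 hu1 hv''U hv''b hcj''
    obtain ⟨a, M, v1, hv1, hM, ha, e'⟩ := middle_of c0 hv''U u1 h0
    rw [hU'e, e'] at hcj''
    exact ⟨M, good0 c0 a M (Or.inr ⟨hc0, fun e => hv''a (ha.1 e)⟩) hM, u1, hu1, v1, hv1, hcj''⟩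
  intro g hg hne
  obtain ⟨u, hu, v, hv, hcj⟩ := gauss hg hne h0
  obtain ⟨u1, hu1, c0, rfl⟩ := exists_split_neg ia hu
  obtain ⟨a, M, v1, hv1, hM, ha, e⟩ := middle_of c0 hv u1 h0
  by_cases hgood : c0 = 0 ∧ a = 0 ∨ c0 ≠ 0 ∧ a ≠ 0
  · rw [e] at hcj
    exact ⟨M, good0 c0 a M hgood hM, u1, hu1, v1, hv1, hcj⟩
  by_cases hc0 : c0 = 0
  · rw [hc0, xG_zero, mul_one] at hcj
    exact stateA hu1 hv hcj
  have ha0 : a = 0 := by
    by_contra h'
    exact hgood (Or.inr ⟨hc0, h'⟩)
  have hva : v ∈ radP (F := F) ia := ha.1 ha0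
  set N : GF := nS facts_chevG2.{u} (ia : ℕ) with hNd
  set T0 : GF := torusHom h0 with hT0
  obtain ⟨k, hk0, hk⟩ := isMon_nS facts_chevG2.{u} ia (F := F) na
  rw [hna, wPerm_negF, hpa, wPerm_sRoot, negF_negF, ← hpa, ← hna, ← hNd] at hk
  have hNn : N ∈ Subgroup.normalizer (negOther (F := F) ia : Set GF) := by
    rw [hNd, nS, nG]
    exact Subgroup.mul_mem _ (Subgroup.mul_mem _ (simple_norm_neg ia _).1 (simple_norm_neg ia _).2)
      (simple_norm_neg ia _).1
  have hNT : N * T0 = T0 * N := by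
    rw [hNd, hT0, nS_conj_torus facts_chevG2.{u} ia.2, show chiU h0 (chevG2.simple (ia : ℕ)) = 1 from ca,
      inv_one, Pi.mulSingle_one, mul_one]
  have hx : T0 * xG facts_chevG2.{u} (pa : ℕ) (k * c0) = xG facts_chevG2.{u} (pa : ℕ) (k * c0) * T0 := by
    rw [hT0, torusHom_conj facts_chevG2.{u} h0 pa.2, ca, Units.val_one, one_mul]
  refine stateA ((Subgroup.mem_normalizer_iff.1 hNn u1).1 hu1)
    (Subgroup.mul_mem _ (xG_pos (r := pa) ((facts_chevG2.{u}).simple_pos ia ia.2) (k * c0))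
      (otherRoots_le facts_chevG2.{u} (ia : ℕ) (nS_conj_other facts_chevG2.{u} ia.2 hva)))
    (hcj.trans ⟨N, nG_mem_group facts_chevG2.{u} _ _, ?_⟩)
  calc N * (u1 * xG facts_chevG2.{u} (na : ℕ) c0 * T0 * v) * N⁻¹
      = N * u1 * N⁻¹ * (N * xG facts_chevG2.{u} (na : ℕ) c0) * T0 * v * N⁻¹ := by group
    _ = N * u1 * N⁻¹ * xG facts_chevG2.{u} (pa : ℕ) (k * c0) * (N * T0) * v * N⁻¹ := by
        rw [hk]; group
    _ = N * u1 * N⁻¹ * (xG facts_chevG2.{u} (pa : ℕ) (k * c0) * T0) * (N * v * N⁻¹) := by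
        rw [hNT]; group
    _ = _ := by rw [← hx, hNd]; group

end Cfsg.Agent.G2Square
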