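import Cfsg.Agent.G2Square.Criterion

/-!
Witnesses over the fields with three, four and five elements.
-/

set_option autoImplicit false
set_option maxRecDepth 100000

namespace Cfsg.Agent.G2Square

open Matrix
open scoped MatrixGroups

universe u

/-- A two by two matrix over `Fin q`, by rows. -/
abbrev Q (q : ℕ) : Type := Fin q × Fin q × Fin q × Fin q

/-- Arithmetic tables. -/
structure Arith (q : ℕ) where
  o : Fin q
  l : Fin q
  add : Fin q → Fin q → Fin q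
  mul : Fin q → Fin q → Fin q
  neg : Fin q → Fin q

variable {q : ℕ}

/-- The product of two by two matrices. -/
def Arith.mm (K : Arith q) (A B : Q q) : Q q :=
  (K.add (K.mul A.1 B.1) (K.mul A.2.1 B.2.2.1), K.add (K.mul A.1 B.2.1) (K.mul A.2.1 B.2.2.2),
    K.add (K.mul A.2.2.1 B.1) (K.mul A.2.2.2 B.2.2.1),
    K.add (K.mul A.2.2.1 B.2.1) (K.mul A.2.2.2 B.2.2.2))

/-- The adjugate. -/
def Arith.adj (K : Arith q) (A : Q q) : Q q := (A.2.2.2, K.neg A.2.1, K.neg A.2.2.1, A.1)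

/-- The determinant. -/
def Arith.det (K : Arith q) (A : Q q) : Fin q :=
  K.add (K.mul A.1 A.2.2.2) (K.neg (K.mul A.2.1 A.2.2.1))

/-- The check of one witness. -/
def Arith.chk (K : Arith q) (X X' : Q q) (w : Q q × Q q × Bool × Q q × Bool) : Bool :=
  K.det w.2.1 == K.l && K.det w.2.2.2.1 == K.l &&
    K.mm (K.mm (K.l, K.o, w.1.2.2.1, K.l) (w.1.1, K.o, K.o, w.1.2.1)) (K.l, w.1.2.2.2, K.o, K.l) ==
      K.mm (K.mm (K.mm w.2.1 (bif w.2.2.1 then X' else X)) (K.adj w.2.1))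
        (K.mm (K.mm w.2.2.2.1 (bif w.2.2.2.2 then X' else X)) (K.adj w.2.2.2.1))

/-- Powers. -/
def Arith.pow (K : Arith q) (A : Q q) : ℕ → Q q
  | 0 => (K.l, K.o, K.o, K.l)
  | n + 1 => K.mm (K.pow A n) A

variable {F : Type u} [Field F]

/-- A map from tables to a field. -/
structure Model (K : Arith q) (F : Type u) [Field F] where
  f : Fin q → F
  surj : Function.Surjective f
  map_o : f K.o = 0
  map_l : f K.l = 1
  map_add : ∀ a b, f (K.add a b) = f a + f b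
  map_mul : ∀ a b, f (K.mul a b) = f a * f b
  map_neg : ∀ a, f (K.neg a) = -f a

variable {K : Arith q} (m : Model K F)

/-- The matrix of a tuple. -/
def Model.mat (A : Q q) : Matrix (Fin 2) (Fin 2) F :=
  !![m.f A.1, m.f A.2.1; m.f A.2.2.1, m.f A.2.2.2]

theorem Model.mat_mm (A B : Q q) : m.mat (K.mm A B) = m.mat A * m.mat B := by
  simp [Model.mat, Arith.mm, m.map_add, m.map_mul]

theorem Model.det_mat (A : Q q) : (m.mat A).det = m.f (K.det A) := by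
  simp [Model.mat, Arith.det, Matrix.det_fin_two, m.map_add, m.map_mul, m.map_neg]
  ring

theorem Model.mat_pow (A : Q q) : ∀ n, m.mat (K.pow A n) = m.mat A ^ n
  | 0 => by simp [Arith.pow, Model.mat, m.map_o, m.map_l, Matrix.one_fin_two]
  | n + 1 => by rw [Arith.pow, m.mat_mm, Model.mat_pow A n, pow_succ]

theorem Model.good {X : GL (Fin 2) F} {A A' : Q q}
    (hX : (X : Matrix (Fin 2) (Fin 2) F) = m.mat A)
    (hX' : ((X * scal (Matrix.GeneralLinearGroup.det X)⁻¹ : GL (Fin 2) F) :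
      Matrix (Fin 2) (Fin 2) F) = m.mat A')
    {w : Q q × Q q × Bool × Q q × Bool} (hw : K.chk A A' w = true) {M : GL (Fin 2) F}
    (hM : (M : Matrix (Fin 2) (Fin 2) F) = !![1, 0; m.f w.1.2.2.1, 1] *
      !![m.f w.1.1, 0; 0, m.f w.1.2.1] * !![1, m.f w.1.2.2.2; 0, 1]) : Good X M := by
  simp only [Arith.chk, Bool.and_eq_true, beq_iff_eq] at hw
  obtain ⟨⟨h1, h2⟩, h3⟩ := hw
  let S : ∀ B : Q q, K.det B = K.l → Matrix.SpecialLinearGroup (Fin 2) F := fun B hB =>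
    ⟨m.mat B, by rw [m.det_mat, hB, m.map_l]⟩
  let Z : Bool → GL (Fin 2) F := fun b => bif b then X * scal (Matrix.GeneralLinearGroup.det X)⁻¹ else X
  have hZ : ∀ b, ((Z b : GL (Fin 2) F) : Matrix (Fin 2) (Fin 2) F) = m.mat (bif b then A' else A) := by
    rintro (_ | _)
    · exact hX
    · exact hX'
  have hconj : ∀ (B : Q q) (hB : K.det B = K.l) (b : Bool),
      ((Matrix.SpecialLinearGroup.toGL (S B hB) * Z b * (Matrix.SpecialLinearGroup.toGL (S B hB))⁻¹ :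
        GL (Fin 2) F) : Matrix (Fin 2) (Fin 2) F) =
      m.mat (K.mm (K.mm B (bif b then A' else A)) (K.adj B)) := by
    intro B hB b
    rw [← map_inv, Units.val_mul, Units.val_mul, hZ, m.mat_mm, m.mat_mm]
    congr 1
    show (((S B hB)⁻¹ : Matrix.SpecialLinearGroup (Fin 2) F) : Matrix (Fin 2) (Fin 2) F) = _
    rw [Matrix.SpecialLinearGroup.coe_inv, Matrix.adjugate_fin_two]
    simp [S, Model.mat, Arith.adj, m.map_neg]
  have hcls : ∀ (B : Q q) (hB : K.det B = K.l) (b : Bool), Cls X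
      (Matrix.SpecialLinearGroup.toGL (S B hB) * Z b * (Matrix.SpecialLinearGroup.toGL (S B hB))⁻¹) := by
    rintro B hB (_ | _)
    · exact ⟨_, Or.inl rfl⟩
    · exact ⟨_, Or.inr rfl⟩
  refine ⟨_, _, Units.ext ?_, hcls _ h1 w.2.2.1, hcls _ h2 w.2.2.2.2⟩
  rw [Units.val_mul, hconj _ h1, hconj _ h2, ← m.mat_mm, ← h3, hM, m.mat_mm, m.mat_mm]
  simp [Model.mat, m.map_o, m.map_l]

/-- The witnesses for `3` elements. -/
def wit3 : List (Q 3 × Q 3 × Bool × Q 3 × Bool) := [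
  ((1, 1, 0, 0), (0, 1, 2, 0), false, (1, 0, 0, 1), true),
  ((1, 1, 0, 1), (0, 1, 2, 0), false, (0, 1, 2, 2), false),
  ((1, 1, 0, 2), (0, 1, 2, 1), false, (1, 0, 2, 1), false),
  ((1, 1, 1, 0), (0, 1, 2, 0), false, (0, 1, 2, 1), false),
  ((1, 1, 1, 1), (0, 1, 2, 0), false, (0, 1, 2, 0), true),
  ((1, 1, 1, 2), (0, 1, 2, 1), false, (1, 0, 0, 1), true),
  ((1, 1, 2, 0), (1, 0, 0, 1), false, (1, 0, 2, 1), false),
  ((1, 1, 2, 1), (0, 1, 2, 2), false, (1, 0, 0, 1), true),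
  ((1, 1, 2, 2), (0, 1, 2, 2), false, (0, 1, 2, 2), false)]

/-- The witnesses for `5` elements. -/
def wit5 : List (Q 5 × Q 5 × Bool × Q 5 × Bool) := [
  ((1, 1, 0, 0), (0, 1, 4, 0), false, (0, 2, 2, 4), true),
  ((1, 1, 0, 1), (0, 1, 4, 0), false, (0, 1, 4, 3), false),
  ((1, 1, 0, 2), (0, 1, 4, 1), false, (0, 2, 2, 2), false),
  ((1, 1, 0, 3), (0, 1, 4, 4), false, (0, 2, 2, 1), false),
  ((1, 1, 0, 4), (0, 2, 2, 0), false, (0, 2, 2, 4), false),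
  ((1, 1, 1, 0), (0, 1, 4, 0), false, (0, 1, 4, 2), false),
  ((1, 1, 1, 1), (0, 2, 2, 0), false, (1, 3, 3, 0), true),
  ((1, 1, 1, 2), (0, 1, 4, 2), false, (0, 1, 4, 2), true),
  ((1, 1, 1, 3), (0, 1, 4, 0), false, (0, 1, 4, 4), true),
  ((1, 1, 1, 4), (0, 1, 4, 1), false, (0, 2, 2, 4), true),
  ((1, 1, 2, 0), (1, 1, 0, 1), false, (1, 1, 4, 0), false),
  ((1, 1, 2, 1), (0, 1, 4, 1), false, (1, 3, 3, 0), false),
  ((1, 1, 2, 2), (0, 1, 4, 1), false, (1, 3, 4, 3), true),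
  ((1, 1, 2, 3), (0, 1, 4, 2), false, (0, 2, 2, 4), true),
  ((1, 1, 2, 4), (0, 1, 4, 2), false, (0, 1, 4, 3), false),
  ((1, 1, 3, 0), (1, 3, 0, 1), false, (1, 3, 1, 4), false),
  ((1, 1, 3, 1), (0, 1, 4, 0), false, (0, 1, 4, 1), true),
  ((1, 1, 3, 2), (0, 1, 4, 3), false, (0, 2, 2, 4), true),
  ((1, 1, 3, 3), (0, 1, 4, 3), false, (0, 1, 4, 3), false),
  ((1, 1, 3, 4), (0, 1, 4, 0), false, (1, 1, 2, 3), false),
  ((1, 1, 4, 0), (0, 2, 2, 0), false, (0, 2, 2, 1), false),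
  ((1, 1, 4, 1), (0, 1, 4, 3), false, (1, 1, 0, 1), true),
  ((1, 1, 4, 2), (0, 1, 4, 3), false, (1, 1, 1, 2), false),
  ((1, 1, 4, 3), (0, 1, 4, 0), false, (1, 1, 0, 1), false),
  ((1, 1, 4, 4), (0, 1, 4, 0), false, (1, 1, 1, 2), true)]

/-- The witnesses for `4` elements. -/
def wit4 : List (Q 4 × Q 4 × Bool × Q 4 × Bool) := [
  ((2, 2, 0, 0), (0, 1, 1, 0), false, (0, 1, 1, 1), false),
  ((2, 2, 1, 1), (0, 1, 1, 3), false, (0, 2, 3, 2), false),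
  ((2, 2, 1, 2), (0, 1, 1, 0), false, (0, 2, 3, 0), false),
  ((2, 2, 1, 3), (0, 1, 1, 1), false, (0, 1, 1, 1), false),
  ((2, 2, 2, 1), (0, 1, 1, 1), false, (0, 3, 2, 3), false),
  ((2, 2, 2, 2), (0, 2, 3, 3), false, (0, 2, 3, 3), false),
  ((2, 2, 2, 3), (0, 2, 3, 2), false, (0, 3, 2, 1), false),
  ((2, 2, 3, 1), (0, 3, 2, 2), false, (0, 3, 2, 2), false),
  ((2, 2, 3, 2), (0, 1, 1, 1), false, (0, 3, 2, 1), false),
  ((2, 2, 3, 3), (0, 1, 1, 0), false, (0, 2, 3, 1), false),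
  ((2, 3, 0, 0), (0, 1, 1, 2), false, (0, 2, 3, 1), true),
  ((2, 3, 0, 1), (0, 1, 1, 1), false, (0, 1, 1, 3), true),
  ((2, 3, 0, 2), (0, 2, 3, 0), false, (0, 3, 2, 2), true),
  ((2, 3, 0, 3), (0, 1, 1, 0), false, (0, 2, 3, 3), true)]

/-- The conditions on a matrix, on tables. -/
def Arith.admChk (K : Arith q) (A A' : Q q) (k : ℕ) (d L L' : Fin q) : Bool :=
  K.mul (K.det A) d == K.l && K.mm A (d, K.o, K.o, d) == A' && K.pow A k == (L, K.o, K.o, L) &&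
    K.pow A' k == (L', K.o, K.o, L') &&
      (K.det A != K.l && K.det A' != K.l && L != K.l && L' != K.l && L != K.o && L' != K.o)

theorem Model.admissible (m : Model K F) (hinj : Function.Injective m.f) {A A' : Q q} {k : ℕ}
    {d L L' : Fin q} (h : K.admChk A A' k d L L' = true) :
    ∃ X : GL (Fin 2) F, (X : Matrix (Fin 2) (Fin 2) F) = m.mat A ∧
      ((X * scal (Matrix.GeneralLinearGroup.det X)⁻¹ : GL (Fin 2) F) :
        Matrix (Fin 2) (Fin 2) F) = m.mat A' ∧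
      Admissible X ∧ ∃ l : Fˣ, X ^ k = scal l := by
  simp only [Arith.admChk, Bool.and_eq_true, beq_iff_eq, bne_iff_ne] at h
  obtain ⟨⟨⟨⟨hd, hA'⟩, hk⟩, hk'⟩, ⟨⟨⟨⟨⟨n1, n2⟩, n3⟩, n4⟩, n5⟩, n6⟩⟩ := h
  have e1 : m.f (K.det A) * m.f d = 1 := by rw [← m.map_mul, hd, m.map_l]
  have hdet : (m.mat A).det ≠ 0 := by
    rw [m.det_mat]; intro e; rw [e, zero_mul] at e1; exact zero_ne_one e1
  set X : GL (Fin 2) F := Matrix.GeneralLinearGroup.mkOfDetNeZero (m.mat A) hdet with hXd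
  have hX : (X : Matrix (Fin 2) (Fin 2) F) = m.mat A := rfl
  have hdv : ((Matrix.GeneralLinearGroup.det X : Fˣ) : F) = m.f (K.det A) := by
    rw [Matrix.GeneralLinearGroup.val_det_apply, hX, m.det_mat]
  have hdi : (((Matrix.GeneralLinearGroup.det X)⁻¹ : Fˣ) : F) = m.f d := by
    rw [Units.val_inv_eq_inv_val, hdv]
    exact inv_eq_of_mul_eq_one_right e1
  have hX' : ((X * scal (Matrix.GeneralLinearGroup.det X)⁻¹ : GL (Fin 2) F) :
      Matrix (Fin 2) (Fin 2) F) = m.mat A' := by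
    rw [Units.val_mul, scal_val, hdi, hX, ← hA', m.mat_mm]
    simp [Model.mat, m.map_o]
  have key : ∀ (Y : GL (Fin 2) F) (B : Q q) (M : Fin q), (Y : Matrix (Fin 2) (Fin 2) F) = m.mat B →
      K.pow B k = (M, K.o, K.o, M) → M ≠ K.o → M ≠ K.l → K.det B ≠ K.l →
      Triv Y ∧ ∃ l : Fˣ, Y ^ k = scal l := by
    intro Y B M hY hpw hMo hMl hBl
    set l : Fˣ := Units.mk0 (m.f M) fun e => hMo (hinj (e.trans m.map_o.symm))
    have hp : Y ^ k = scal l := by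
      apply Units.ext
      rw [Units.val_pow_eq_pow_val, hY, ← m.mat_pow, hpw, scal_val]
      simp [Model.mat, m.map_o, l]
    refine ⟨triv_of (fun e => hBl (hinj ?_)) (fun e => hMl (hinj ?_)) hp, l, hp⟩
    · rw [← m.det_mat, ← hY, ← Matrix.GeneralLinearGroup.val_det_apply, e, m.map_l, Units.val_one]
    · have := congrArg (fun a : Fˣ => (a : F)) e
      simpa [l, m.map_l] using this
  obtain ⟨t1, hl⟩ := key X A L hX hk n5 n3 n1
  exact ⟨X, hX, hX', ⟨t1, (key _ A' L' hX' hk' n6 n4 n2).1⟩, hl⟩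

/-- The tables modulo three. -/
def K3 : Arith 3 := ⟨0, 1, (· + ·), (· * ·), (- ·)⟩

/-- The tables modulo five. -/
def K5 : Arith 5 := ⟨0, 1, (· + ·), (· * ·), (- ·)⟩

/-- The tables of the field with four elements, `2` and `3` being the primitive cube roots of `1`. -/
def K4 : Arith 4 :=
  ⟨0, 1,
    fun a b => [0, 1, 2, 3, 1, 0, 3, 2, 2, 3, 0, 1, 3, 2, 1, 0].getD (4 * a.val + b.val) 0,
    fun a b => [0, 0, 0, 0, 0, 1, 2, 3, 0, 2, 3, 1, 0, 3, 1, 2].getD (4 * a.val + b.val) 0,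
    id⟩

theorem chk3 : ∀ c a : Fin 3, ∃ w ∈ wit3, w.1 = (1, 1, c, a) ∧
    K3.chk (0, 1, 1, 1) (0, 2, 2, 2) w = true := by decide +kernel

theorem chk5 : ∀ c a : Fin 5, ∃ w ∈ wit5, w.1 = (1, 1, c, a) ∧
    K5.chk (0, 1, 1, 2) (0, 4, 4, 3) w = true := by decide +kernel

theorem chk4 : (∀ c a : Fin 4, (c = 0 ∧ a = 0) ∨ (c ≠ 0 ∧ a ≠ 0) → ∃ w ∈ wit4,
      w.1 = (2, 2, c, a) ∧ K4.chk (0, 2, 1, 1) (0, 1, 3, 3) w = true) ∧
    ∀ a : Fin 4, ∃ w ∈ wit4,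
      w.1 = (2, 3, 0, a) ∧ K4.chk (0, 2, 1, 1) (0, 1, 3, 3) w = true := by decide +kernel

end Cfsg.Agent.G2Square
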