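import Cfsg.Agent.G2Square.Gauss
import Cfsg.Agent.Chev.CentralizerTorus
import Mathlib.RingTheory.IntegralDomain

/-!
Products of two conjugates of a regular torus element cover the non-identity elements of `G₂(F)`.
-/

set_option autoImplicit false
set_option maxRecDepth 100000

namespace Cfsg.Agent.G2Square

open Cfsg.Lie Cfsg.Agent.Chev
open Cfsg.Agent.Chev.G2Invol (ia ib words half_g2 nroots_eq)
open scoped MatrixGroups

universe u

variable {F : Type u} [Field F]

local notation "GF" => GL chevG2.Idx F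

/-- Normalised and with trivial centraliser in a finite subgroup: all of the coset is conjugate. -/
theorem twist_surj {G : Type*} [Group G] {S : Subgroup G} [Finite S] {x : G}
    (hnorm : ∀ w ∈ S, x⁻¹ * w * x ∈ S) (htriv : ∀ w ∈ S, x * w = w * x → w = 1)
    {v : G} (hv : v ∈ S) : ∃ w ∈ S, x * v = w * x * w⁻¹ := by
  let f : S → S := fun w => ⟨x⁻¹ * (w : G) * x * (w : G)⁻¹,
    Subgroup.mul_mem _ (hnorm _ w.2) (Subgroup.inv_mem _ w.2)⟩
  have hinj : Function.Injective f := by
    intro a b e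
    have e' : x⁻¹ * (a : G) * x * (a : G)⁻¹ = x⁻¹ * (b : G) * x * (b : G)⁻¹ :=
      congrArg Subtype.val e
    have hc : x * ((b : G)⁻¹ * a) = (b : G)⁻¹ * a * x := by
      calc x * ((b : G)⁻¹ * a) = (b : G)⁻¹ * (x * (x⁻¹ * (b : G) * x * (b : G)⁻¹)) * a := by group
        _ = (b : G)⁻¹ * (x * (x⁻¹ * (a : G) * x * (a : G)⁻¹)) * a := by rw [e']
        _ = _ := by group
    have := htriv _ (Subgroup.mul_mem _ (Subgroup.inv_mem _ b.2) a.2) hc
    exact Subtype.ext (inv_mul_eq_one.1 this).symm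
  obtain ⟨w, hw⟩ := Finite.surjective_of_injective hinj ⟨v, hv⟩
  exact ⟨w, w.2, by rw [← show x⁻¹ * (w : G) * x * (w : G)⁻¹ = v from congrArg Subtype.val hw]; group⟩

theorem twist_surj_left {G : Type*} [Group G] {S : Subgroup G} [Finite S] {x : G}
    (hnorm : ∀ w ∈ S, x⁻¹ * w * x ∈ S) (htriv : ∀ w ∈ S, x * w = w * x → w = 1)
    {u : G} (hu : u ∈ S) : ∃ w ∈ S, u * x = w * x * w⁻¹ := by
  obtain ⟨w, hw, e⟩ := twist_surj hnorm htriv (hnorm u hu)
  exact ⟨w, hw, by rw [← e]; group⟩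

theorem pos_regular {c : Fin chevG2.rank → Fˣ} (hc : ∀ r : Fin chevG2.nroots, chiU c (r : ℕ) ≠ 1)
    {w : GF} (hw : w ∈ chevG2.posUnipotent F) (h : torusHom c * w = w * torusHom c) : w = 1 := by
  rw [posUnipotent_eq facts_chevG2.{u}] at hw
  obtain ⟨t, rfl⟩ := exists_prodFrom facts_chevG2.{u} _ _ rfl le_rfl w hw
  exact prodFrom_eq_one_of_comm facts_chevG2.{u} hc h

theorem neg_regular {c : Fin chevG2.rank → Fˣ} (hc : ∀ r : Fin chevG2.nroots, chiU c (r : ℕ) ≠ 1)
    {w : GF} (hw : w ∈ chevG2.negUnipotent F) (h : torusHom c * w = w * torusHom c) : w = 1 := by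
  rw [← map_pos] at hw
  obtain ⟨v, hv, rfl⟩ := Subgroup.mem_map.1 hw
  set n : GF := nWord facts_chevG2.{u} w0 with hn
  obtain ⟨e, he⟩ := CentTorus.exists_conj_torus facts_chevG2.{u}
    (Subgroup.inv_mem _ (nWord_mem facts_chevG2.{u} w0 (F := F))) c
  rw [← hn] at he
  have he' : n * torusHom e = torusHom c * n := by
    calc n * torusHom e = n * (torusHom e * n⁻¹) * n := by group
      _ = _ := by rw [← he]; group
  have hreg : ∀ r : Fin chevG2.nroots, chiU e (r : ℕ) ≠ 1 := fun r => by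
    rw [← CentTorus.chiU_conj facts_chevG2.{u} (isMon_nWord facts_chevG2.{u} w0) he' r]
    exact hc _
  have h' : torusHom c * (n * v * n⁻¹) = n * v * n⁻¹ * torusHom c := h
  have h2 : torusHom e * v = v * torusHom e := by
    have e1 : torusHom e = n⁻¹ * torusHom c * n := by rw [mul_assoc, ← he']; group
    calc torusHom e * v = n⁻¹ * (torusHom c * (n * v * n⁻¹)) * n := by rw [e1]; group
      _ = n⁻¹ * (n * v * n⁻¹ * torusHom c) * n := by rw [h']
      _ = _ := by rw [e1]; group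
  show n * v * n⁻¹ = 1
  rw [pos_regular hreg hv h2]; group

theorem neg_le_group : chevG2.negUnipotent F ≤ chevG2.group F := by
  rw [← map_pos]
  rintro g ⟨v, hv, rfl⟩
  exact Subgroup.mul_mem _ (Subgroup.mul_mem _ (nWord_mem_group _) (pos_le_group hv))
    (Subgroup.inv_mem _ (nWord_mem_group _))

theorem torus_conj_neg' (c : Fin chevG2.rank → Fˣ) {v : GF} (hv : v ∈ chevG2.negUnipotent F) :
    (torusHom c : GF)⁻¹ * v * torusHom c ∈ chevG2.negUnipotent F := by
  have h := (Subgroup.mem_normalizer_iff''.1 (diagonal_le_normalizer_neg facts_chevG2.{u}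
    (torusHom_mem facts_chevG2.{u} c)) v).1 hv
  exact h

/-- The class of a regular torus element. -/
theorem regular_cover [Finite F] {c : Fin chevG2.rank → Fˣ}
    (hc : ∀ r : Fin chevG2.nroots, chiU c (r : ℕ) ≠ 1) {g : GF} (hg : g ∈ chevG2.group F)
    (hne : g ≠ 1) : ∃ a ∈ chevG2.group F, ∃ b ∈ chevG2.group F,
      g = (a * torusHom c * a⁻¹) * (b * torusHom c * b⁻¹) := by
  obtain ⟨u, hu, v, hv, e, he, heq⟩ := gauss hg hne (c * c)
  obtain ⟨a, ha, ha'⟩ := twist_surj_left (fun w hw => torus_conj_neg' c hw)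
    (fun w hw h => neg_regular hc hw h) hu
  obtain ⟨b, hb, hb'⟩ := twist_surj (fun w hw => torus_conj_pos' c hw)
    (fun w hw h => pos_regular hc hw h) hv
  refine ⟨e⁻¹ * a, Subgroup.mul_mem _ (Subgroup.inv_mem _ he) (neg_le_group ha),
    e⁻¹ * b, Subgroup.mul_mem _ (Subgroup.inv_mem _ he) (pos_le_group hb), ?_⟩
  calc g = e⁻¹ * (e * g * e⁻¹) * e := by group
    _ = e⁻¹ * ((u * torusHom c) * (torusHom c * v)) * e := by rw [heq, map_mul]; group
    _ = _ := by rw [ha', hb']; group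

/-- The exponents of the chosen element on the roots. -/
theorem exps : ∀ r : Fin chevG2.nroots,
    1 ≤ (3 * chevG2.cartan ia r + 5 * chevG2.cartan ib r).natAbs ∧
      (3 * chevG2.cartan ia r + 5 * chevG2.cartan ib r).natAbs ≤ 5 := by decide +kernel

theorem exists_regular [Finite F] (h7 : 7 ≤ Nat.card F) :
    ∃ c : Fin chevG2.rank → Fˣ, (∀ r : Fin chevG2.nroots, chiU c (r : ℕ) ≠ 1) ∧
      c ^ (Nat.card F - 1) = 1 := by
  classical
  have := Fintype.ofFinite F
  obtain ⟨z, hz⟩ := IsCyclic.exists_generator (α := Fˣ)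
  have hord : orderOf z = Nat.card F - 1 := by
    rw [orderOf_eq_card_of_forall_mem_zpowers hz, Nat.card_units]
  refine ⟨fun j => if j = ia then z ^ 3 else z ^ 5, fun r h => ?_, ?_⟩
  · obtain ⟨h1, h2⟩ := exps r
    have e : chiU (fun j => if j = ia then z ^ 3 else z ^ 5) (r : ℕ) =
        z ^ (3 * chevG2.cartan ia r + 5 * chevG2.cartan ib r) := by
      have hu : (Finset.univ : Finset (Fin chevG2.rank)) = {ia, ib} := by decide +kernel
      have hab : ia ≠ ib := by decide +kernel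
      rw [chiU, hu, Finset.prod_pair hab, if_pos rfl, if_neg hab.symm, zpow_add, zpow_mul,
        zpow_mul]
      norm_cast
    rw [e, ← orderOf_dvd_iff_zpow_eq_one, hord] at h
    have h3 := Nat.le_of_dvd (by omega) (Int.ofNat_dvd_left.1 h)
    omega
  · funext j
    have hz1 : z ^ (Nat.card F - 1) = 1 := by rw [← hord, pow_orderOf_eq_one]
    show (if j = ia then z ^ 3 else z ^ 5) ^ (Nat.card F - 1) = 1
    split_ifs <;> rw [← pow_mul, mul_comm, pow_mul, hz1, one_pow]

end Cfsg.Agent.G2Square
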